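import Cfsg.Agent.Lib.Helper4.M24B.LocalR

/-!
# Transport of `QR` to the Sylow subgroups of the centralizers of conjugate elements
-/

set_option autoImplicit false

namespace Cfsg.Agent.Lib.Helper4.M24B

open Pointwise

variable {G : Type*} [Group G]

theorem map_conj_le_centralizer {y w : G} {D : Subgroup G}
    (hD : D ≤ Subgroup.centralizer ({y} : Set G)) :
    D.map (MulAut.conj w).toMonoidHom ≤ Subgroup.centralizer ({w * y * w⁻¹} : Set G) := by
  intro x hx
  have h1 := hD (mem_map_conj.1 hx)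
  rw [Subgroup.mem_centralizer_singleton_iff] at h1 ⊢
  calc x * (w * y * w⁻¹) = w * ((w⁻¹ * x * w) * y) * w⁻¹ := by group
    _ = w * (y * (w⁻¹ * x * w)) * w⁻¹ := by rw [h1]
    _ = w * y * w⁻¹ * x := by group

theorem card_map_conj (w : G) (D : Subgroup G) :
    Nat.card (D.map (MulAut.conj w).toMonoidHom) = Nat.card D :=
  (Nat.card_congr (D.equivMapOfInjective _ (MulAut.conj w).injective).toEquiv).symm

theorem map_conj_map_conj_inv (w : G) (D : Subgroup G) :
    (D.map (MulAut.conj w).toMonoidHom).map (MulAut.conj w⁻¹).toMonoidHom = D := by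
  ext x
  rw [mem_map_conj, mem_map_conj]
  have : w⁻¹ * (w⁻¹⁻¹ * x * w⁻¹) * w = x := by group
  rw [this]

/-- two subgroups of `H` of the order of a Sylow `p`-subgroup of `H` are conjugate under `H` -/
theorem exists_conj_of_card_eq [Finite G] {p : ℕ} [Fact p.Prime] {H D₁ D₂ : Subgroup G}
    (h₁ : D₁ ≤ H) (h₂ : D₂ ≤ H) (hc₁ : Nat.card D₁ = p ^ (Nat.card H).factorization p)
    (hc₂ : Nat.card D₂ = p ^ (Nat.card H).factorization p) :
    ∃ g ∈ H, D₂ = D₁.map (MulAut.conj g).toMonoidHom := by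
  have e₁ : Nat.card (D₁.subgroupOf H) = p ^ (Nat.card H).factorization p := by
    rw [← hc₁]; exact Nat.card_congr (Subgroup.subgroupOfEquivOfLe h₁).toEquiv
  have e₂ : Nat.card (D₂.subgroupOf H) = p ^ (Nat.card H).factorization p := by
    rw [← hc₂]; exact Nat.card_congr (Subgroup.subgroupOfEquivOfLe h₂).toEquiv
  let S₁ : Sylow p H := Sylow.ofCard (D₁.subgroupOf H) e₁
  let S₂ : Sylow p H := Sylow.ofCard (D₂.subgroupOf H) e₂
  obtain ⟨g, hg⟩ := MulAction.exists_smul_eq H S₁ S₂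
  refine ⟨g, g.2, ?_⟩
  have hS : (S₂ : Subgroup H) = MulAut.conj g • (S₁ : Subgroup H) := by
    rw [← hg]; rfl
  have key : ∀ x : H, x ∈ D₂.subgroupOf H ↔ g⁻¹ * x * g ∈ D₁.subgroupOf H := by
    intro x
    have h2 : x ∈ (S₂ : Subgroup H) ↔ x ∈ D₂.subgroupOf H := Iff.rfl
    have h3 : g⁻¹ * x * g ∈ (S₁ : Subgroup H) ↔ g⁻¹ * x * g ∈ D₁.subgroupOf H := Iff.rfl
    rw [← h2, ← h3, hS, Subgroup.mem_pointwise_smul_iff_inv_smul_mem]
    have : (MulAut.conj g)⁻¹ • x = g⁻¹ * x * g := by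
      rw [MulAut.smul_def, MulAut.conj_inv_apply]
    rw [this]
  ext x
  rw [mem_map_conj]
  constructor
  · intro hx
    have h1 := (key ⟨x, h₂ hx⟩).1 (Subgroup.mem_subgroupOf.2 hx)
    exact Subgroup.mem_subgroupOf.1 h1
  · intro hx
    have hxH : x ∈ H := by
      have h1 : (g : G)⁻¹ * x * g ∈ H := h₁ hx
      have h2 : x = g * ((g : G)⁻¹ * x * g) * (g : G)⁻¹ := by group
      rw [h2]
      exact mul_mem (mul_mem g.2 h1) (inv_mem g.2)
    have h1 := (key ⟨x, hxH⟩).2 (Subgroup.mem_subgroupOf.2 hx)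
    exact Subgroup.mem_subgroupOf.1 h1

/-- `QR` for the Sylow subgroups of the centralizers of the conjugates of `y₁` -/
theorem QR_of_sylow_conj [Finite G] {p : ℕ} [Fact p.Prime] {y₁ : G} {D₁ : Subgroup G}
    (hD₁ : D₁ ≤ Subgroup.centralizer ({y₁} : Set G))
    (hcard : Nat.card D₁ = p ^ (Nat.card (Subgroup.centralizer ({y₁} : Set G))).factorization p)
    (hQ : QR p D₁) {y : G} (hy : IsConj y y₁) {D : Subgroup G}
    (hD : D ≤ Subgroup.centralizer ({y} : Set G)) (hDc : Nat.card D = Nat.card D₁) : QR p D := by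
  obtain ⟨w, hw⟩ := isConj_iff.1 hy
  have h2 : D.map (MulAut.conj w).toMonoidHom ≤ Subgroup.centralizer ({y₁} : Set G) := by
    rw [← hw]; exact map_conj_le_centralizer hD
  have hc2 : Nat.card (D.map (MulAut.conj w).toMonoidHom) =
      p ^ (Nat.card (Subgroup.centralizer ({y₁} : Set G))).factorization p := by
    rw [card_map_conj, hDc, hcard]
  obtain ⟨g, -, hg⟩ := exists_conj_of_card_eq hD₁ h2 hcard hc2
  have h3 := QR_conj g hQ
  rw [← hg] at h3
  have h4 := QR_conj w⁻¹ h3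
  rwa [map_conj_map_conj_inv] at h4

end Cfsg.Agent.Lib.Helper4.M24B
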