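import Cfsg.Agent.Lib.Helper4.M24B.SiftS
import Cfsg.Agent.Lib.Helper4.M24B.LocalT

/-!
# M24: the action on the 24 points and the codes; subgroups generated by elements given by codes
-/

set_option autoImplicit false

namespace Cfsg.Agent.Lib.Helper4.M24B

open Cfsg Cfsg.Agent.Lib.Helper1 Cfsg.Agent.Lib.Helper1.PermCode

theorem Φ_apply_val (x : GG) (i : Fin 24) : ((Φ x) i).val = pd (cd x) i.val := by
  have h := (isCode_cd x).2
  rw [← h]
  show pd (cd x) i.val % 24 = pd (cd x) i.val
  exact Nat.mod_eq_of_lt ((isCode_cd x).1.2 _ i.2)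

theorem Φ_eq_of_pd {x y : GG} {i : Fin 24} (h : pd (cd x) i.val = pd (cd y) i.val) :
    Φ x i = Φ y i := by
  apply Fin.ext
  rw [Φ_apply_val, Φ_apply_val, h]

theorem Φ_fix_iff (x : GG) (i : Fin 24) : Φ x i = i ↔ pd (cd x) i.val = i.val := by
  rw [← Φ_apply_val]
  exact ⟨fun h => by rw [h], fun h => Fin.ext h⟩

theorem commute_of_codes {a b : ℕ} {x y : GG} (ha : IsCode a x) (hb : IsCode b y)
    (h : pmu2 a b = pmu2 b a) : x * y = y * x :=
  (h ▸ ha.mul hb).elt_unique (hb.mul ha)

/-- the elements with their codes in a list -/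
def gset (codes : List ℕ) : Set GG := {x | ∃ c ∈ codes, IsCode c x}

theorem exists_gen {codes : List ℕ} (hchk : codes.all (fun c => chkM24 (tabOf c) c) = true)
    {c : ℕ} (hc : c ∈ codes) : ∃ x ∈ Subgroup.closure (gset codes), IsCode c x := by
  have h := List.all_eq_true.1 hchk c hc
  exact ⟨gOfChk h, Subgroup.subset_closure ⟨c, hc, isCode_gOfChk h⟩, isCode_gOfChk h⟩

theorem closure_gset_le_centralizer {codes : List ℕ} {z : GG} {cz : ℕ} (hz : IsCode cz z)
    (hcomm : codes.all (fun s => Nat.beq (pmu2 s cz) (pmu2 cz s)) = true) :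
    Subgroup.closure (gset codes) ≤ Subgroup.centralizer ({z} : Set GG) := by
  rw [Subgroup.closure_le]
  rintro x ⟨c, hc, hxc⟩
  rw [SetLike.mem_coe, Subgroup.mem_centralizer_singleton_iff]
  exact commute_of_codes hxc hz (Nat.eq_of_beq_eq_true (List.all_eq_true.1 hcomm c hc))

/-- the codes of the inverses of the generators -/
theorem cd_inv_mem {codes codesI : List ℕ}
    (hinv : codes.all (fun c => codesI.any fun ci =>
      Nat.beq (pmu2 c ci) pc1 && Nat.beq (pmu2 ci pc1) ci) = true)
    {y : GG} (hy : y ∈ gset codes) : cd y ∈ codes ∧ cd y⁻¹ ∈ codesI := by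
  obtain ⟨c, hc, hyc⟩ := hy
  rw [cd_eq hyc]
  refine ⟨hc, ?_⟩
  obtain ⟨ci, hci, h⟩ := List.any_eq_true.1 (List.all_eq_true.1 hinv c hc)
  rw [Bool.and_eq_true] at h
  have h1 := Nat.eq_of_beq_eq_true h.1
  have h2 := Nat.eq_of_beq_eq_true h.2
  rw [cd_eq (hyc.inv_of_mul (canon_of_pmu2_pc1 h2) h1)]
  exact hci

theorem prodsL_length (ss : List ℕ) : (prodsL ss).length = 2 ^ ss.length := by
  induction ss with
  | nil => rfl
  | cons s ss ih =>
    rw [prodsL, List.length_append, List.length_map, ih, List.length_cons, pow_succ]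
    ring

/-- a subgroup generated by elements given by codes, all of whose elements are listed -/
structure CodeGrp (gens gensI : List ℕ) : Prop where
  /-- the generators are in the group -/
  chk : gens.all (fun c => chkM24 (tabOf c) c) = true
  /-- the inverses -/
  inv : gens.all (fun c => gensI.any fun ci =>
    Nat.beq (pmu2 c ci) pc1 && Nat.beq (pmu2 ci pc1) ci) = true
  /-- the list of the products is closed -/
  closed : (prodsL gens).all (fun a => (gens ++ gensI).all fun s =>
    (prodsL gens).contains (pmu2 a s)) = true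
  /-- no repetition -/
  nodup : (prodsL gens).Nodup

namespace CodeGrp

variable {gens gensI : List ℕ} (h : CodeGrp gens gensI)

include h

theorem realized : ∀ a ∈ prodsL gens, ∃ x ∈ Subgroup.closure (gset gens), IsCode a x :=
  prodsL_realized _ gens (fun _ hs => exists_gen h.chk hs)

theorem cd_mem : ∀ x ∈ Subgroup.closure (gset gens), cd x ∈ prodsL gens := by
  intro x hx
  induction hx using Subgroup.closure_induction_right with
  | one =>
    rw [cd_one]
    have : ∀ ss : List ℕ, pc1 ∈ prodsL ss := by
      intro ss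
      induction ss with
      | nil => exact List.mem_singleton.2 rfl
      | cons s ss ih => rw [prodsL]; exact List.mem_append_left _ ih
    exact this gens
  | mul_right x hx y hy ih =>
    rw [cd_mul]
    exact List.contains_iff_mem.1 (List.all_eq_true.1 (List.all_eq_true.1 h.closed _ ih) (cd y)
      (List.mem_append_left _ (cd_inv_mem h.inv hy).1))
  | mul_inv_cancel x hx y hy ih =>
    rw [cd_mul]
    exact List.contains_iff_mem.1 (List.all_eq_true.1 (List.all_eq_true.1 h.closed _ ih) (cd y⁻¹)
      (List.mem_append_right _ (cd_inv_mem h.inv hy).2))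

theorem card : Nat.card (Subgroup.closure (gset gens)) = 2 ^ gens.length := by
  rw [card_eq_length_of_codes _ _ h.nodup h.cd_mem h.realized, prodsL_length]

theorem isPGroup : IsPGroup 2 (Subgroup.closure (gset gens)) :=
  IsPGroup.of_card h.card

theorem mem_of_cd {x : GG} (hx : cd x ∈ prodsL gens) : x ∈ Subgroup.closure (gset gens) := by
  obtain ⟨y, hy, hyc⟩ := h.realized _ hx
  rwa [(isCode_cd x).elt_unique hyc]

end CodeGrp

end Cfsg.Agent.Lib.Helper4.M24B
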