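import Cfsg.Agent.Lib.Helper4.M24B.Reps

/-!
# M24: the statement of the class equation (representatives and orders of centralizers)
-/

set_option autoImplicit false

namespace Cfsg.Agent.Lib.Helper4.M24B

open Cfsg Cfsg.Agent.Lib.Helper1 Cfsg.Agent.Lib.Helper1.PermCode

/-- the representatives of the classes: element, code, order of the centralizer -/
def repT : List (GG × ℕ × ℕ) :=
  [(1, pc1, 244823040), (g2A, c2A, 21504), (g2B, c2B, 7680), (g3A, c3A, 1080), (g3B, c3B, 504),
    (g4A, c4A, 384), (g4B, c4B, 128), (g4C, c4C, 96), (g5A, c5A, 60), (g6A, c6A, 24),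
    (g6B, c6B, 24), (g7A, c7A, 42), (g7B, c7B, 42), (g8A, c8A, 16), (g10A, c10A, 20),
    (g11A, c11A, 11), (g12A, c12A, 12), (g12B, c12B, 12), (g14A, c14A, 14), (g14B, c14B, 14),
    (g15A, c15A, 15), (g15B, c15B, 15), (g21A, c21A, 21), (g21B, c21B, 21), (g23A, c23A, 23),
    (g23B, c23B, 23)]

/-- the codes and the orders of the centralizers -/
def repC : List (ℕ × ℕ) :=
  [(pc1, 244823040), (c2A, 21504), (c2B, 7680), (c3A, 1080), (c3B, 504),
    (c4A, 384), (c4B, 128), (c4C, 96), (c5A, 60), (c6A, 24),
    (c6B, 24), (c7A, 42), (c7B, 42), (c8A, 16), (c10A, 20),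
    (c11A, 11), (c12A, 12), (c12B, 12), (c14A, 14), (c14B, 14),
    (c15A, 15), (c15B, 15), (c21A, 21), (c21B, 21), (c23A, 23),
    (c23B, 23)]

theorem repT_map : repT.map (fun p => p.2) = repC := rfl

theorem repT_snd_mem {p : GG × ℕ × ℕ} (hp : p ∈ repT) : p.2 ∈ repC := by
  rw [← repT_map]
  exact List.mem_map_of_mem hp

theorem repT_isCode : ∀ p ∈ repT, IsCode p.2.1 p.1 := by
  intro p hp
  simp only [repT, List.mem_cons, List.not_mem_nil, or_false] at hp
  rcases hp with rfl | rfl | rfl | rfl | rfl | rfl | rfl | rfl | rfl | rfl | rfl | rfl | rfl |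
    rfl | rfl | rfl | rfl | rfl | rfl | rfl | rfl | rfl | rfl | rfl | rfl | rfl
  · exact isCode_one
  · exact isCode_g2A
  · exact isCode_g2B
  · exact isCode_g3A
  · exact isCode_g3B
  · exact isCode_g4A
  · exact isCode_g4B
  · exact isCode_g4C
  · exact isCode_g5A
  · exact isCode_g6A
  · exact isCode_g6B
  · exact isCode_g7A
  · exact isCode_g7B
  · exact isCode_g8A
  · exact isCode_g10A
  · exact isCode_g11A
  · exact isCode_g12A
  · exact isCode_g12B
  · exact isCode_g14A
  · exact isCode_g14B
  · exact isCode_g15A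
  · exact isCode_g15B
  · exact isCode_g21A
  · exact isCode_g21B
  · exact isCode_g23A
  · exact isCode_g23B

/-- **the class equation of M24**: every element is conjugate to one of the 26 representatives,
and the orders of their centralizers -/
structure ClassEq : Prop where
  /-- every element is conjugate to a representative -/
  conj : ∀ x : GG, ∃ p ∈ repT, IsConj x p.1
  /-- the orders of the centralizers -/
  card : ∀ p ∈ repT, Nat.card (Subgroup.centralizer ({p.1} : Set GG)) = p.2.2

theorem isCode_ppow {c : ℕ} {g : GG} (h : IsCode c g) (n : ℕ) : IsCode (ppow c n) (g ^ n) := by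
  induction n with
  | zero => rw [pow_zero]; exact isCode_one
  | succ n ih => rw [pow_succ', ppow]; exact h.mul ih

/-- an element with a conjugate whose code is known -/
theorem eq_of_mem_repT {p : GG × ℕ × ℕ} (hp : p ∈ repT) {c : ℕ} {g : GG} (hg : IsCode c g)
    (h : p.2.1 = c) : p.1 = g :=
  (h ▸ repT_isCode p hp).elt_unique hg

end Cfsg.Agent.Lib.Helper4.M24B
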