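import Cfsg.Agent.Lib.Helper4.M24B.B1Data
import Cfsg.Agent.Lib.Helper4.M24B.ClassIface

/-!
# M24: no irreducible character of 2-defect zero
-/

set_option autoImplicit false
set_option maxRecDepth 100000

namespace Cfsg.Agent.Lib.Helper4.M24B

open Cfsg Cfsg.Agent.Lib.Helper1 Cfsg.Agent.Lib.Helper1.PermCode
open Cfsg.Agent.Lib.Helper8

theorem B1L_nodup : B1L.Nodup := (Cfsg.Agent.Lib.Helper4.M22B.incFrom_spec B1L 0 B1L_inc).2

theorem B1L_chk : ∀ c ∈ B1L, realB c = true ∧ isAc c = true := by
  intro c hc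
  simp only [B1L, List.mem_append, or_assoc] at hc
  have key : ∀ l : List ℕ, l.all (fun c => realB c && isAc c) = true → c ∈ l →
      realB c = true ∧ isAc c = true := by
    intro l hl hcl
    have := List.all_eq_true.1 hl c hcl
    rwa [Bool.and_eq_true] at this
  rcases hc with h | h | h | h | h | h | h | h
  · exact key _ b1chk0 h
  · exact key _ b1chk1 h
  · exact key _ b1chk2 h
  · exact key _ b1chk3 h
  · exact key _ b1chk4 h
  · exact key _ b1chk5 h
  · exact key _ b1chk6 h
  · exact key _ b1chk7 h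

theorem B1L_real : ∀ c ∈ B1L, ∃ x : GG, IsCode c x := fun c hc =>
  exists_of_realB (B1L_chk c hc).1

theorem isA_of_mem {x : GG} (h : cd x ∈ B1L) : isA x := (isA_iff x).2 (B1L_chk _ h).2

theorem isA_g2A : isA g2A := by
  rw [isA_iff, cd_eq isCode_g2A]
  decide +kernel

theorem repC_isA : repC.all (fun q => !isAc q.1 || Nat.beq q.1 c2A) = true := by decide +kernel

theorem isA_iff_isConj (hce : ClassEq) (x : GG) : isA x ↔ IsConj g2A x := by
  constructor
  · intro hx
    obtain ⟨p, hp, hconj⟩ := hce.conj x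
    obtain ⟨t, ht⟩ := isConj_iff.1 hconj
    have h1 : isA p.1 := by rw [← ht, isA_conj]; exact hx
    have h2 : isAc p.2.1 = true := by
      rw [isA_iff, cd_eq (repT_isCode p hp)] at h1; exact h1
    have h3 := List.all_eq_true.1 repC_isA p.2 (repT_snd_mem hp)
    rw [h2] at h3
    have h4 : p.2.1 = c2A := Nat.eq_of_beq_eq_true (by simpa using h3)
    have h5 : p.1 = g2A := eq_of_mem_repT hp isCode_g2A h4
    rw [h5] at hconj
    exact hconj.symm
  · intro h
    obtain ⟨t, ht⟩ := isConj_iff.1 h
    rw [← ht, isA_conj]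
    exact isA_g2A

theorem card_codes_set (L : List ℕ) (hnd : L.Nodup) (hreal : ∀ c ∈ L, ∃ x : GG, IsCode c x) :
    Nat.card {x : GG // cd x ∈ L} = L.length := by
  classical
  have e : {x : GG // cd x ∈ L} ≃ {a // a ∈ L.toFinset} :=
    Equiv.ofBijective (fun x => ⟨cd x.1, List.mem_toFinset.2 x.2⟩) ⟨by
      intro x y hxy
      apply Subtype.ext
      apply cd_injective
      exact congrArg Subtype.val hxy, by
      rintro ⟨a, ha⟩
      obtain ⟨x, hxc⟩ := hreal a (List.mem_toFinset.1 ha)
      have hcx : cd x = a := cd_eq hxc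
      exact ⟨⟨x, hcx ▸ List.mem_toFinset.1 ha⟩, Subtype.ext hcx⟩⟩
  rw [Nat.card_congr e, Nat.card_eq_fintype_card, Fintype.card_coe,
    List.toFinset_card_of_nodup hnd]

theorem isA_iff_mem (hce : ClassEq) (x : GG) : isA x ↔ cd x ∈ B1L := by
  have hsub : {x : GG | cd x ∈ B1L} ⊆ {x : GG | isA x} := fun x hx => isA_of_mem hx
  have h1 : Set.ncard {x : GG | cd x ∈ B1L} = 11385 := by
    rw [← Nat.card_coe_set_eq]
    exact (card_codes_set B1L B1L_nodup B1L_real).trans B1L_length
  have h2 : Set.ncard {x : GG | isA x} = 11385 := by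
    have h3 : {x : GG | isA x} = {v : GG | IsConj g2A v} := by
      ext v; exact isA_iff_isConj hce v
    rw [h3, ← Nat.card_coe_set_eq]
    have h4 := Cfsg.Agent.Lib.Helper1.card_isConj_mul_card_centralizer (G := GG) g2A
    have h5 := hce.card (g2A, c2A, 21504) (by simp [repT])
    simp only at h5
    rw [h5, Cfsg.Agent.Lib.Helper1.M24.card_M24] at h4
    have : Nat.card {v : GG // IsConj g2A v} = 11385 := by omega
    exact this
  have h6 := Set.eq_of_subset_of_ncard_le hsub (by rw [h1, h2]) (Set.toFinite _)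
  constructor
  · intro hx
    have : x ∈ {x : GG | isA x} := hx
    rw [← h6] at this
    exact this
  · exact fun hx => isA_of_mem hx

theorem parB_eq (cg : ℕ) : parB cg = (B1L.filter (fun a => isBc (pmu2 a cg))).length % 2 := rfl

theorem mcnt_eq (hce : ClassEq) {g : GG} {c : ℕ} (hg : IsCode c g) :
    mcnt isA isB g = (B1L.filter (fun a => isBc (pmu2 a c))).length := by
  rw [mcnt_eq_of_list B1L B1L_nodup (isA_iff_mem hce) B1L_real g isBc, cd_eq hg]
  intro x hx
  have hinv : x⁻¹ = x := inv_eq_of_mul_eq_one_left hx.1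
  rw [hinv, isB_iff, cd_mul]

theorem hpar_of_parB (hce : ClassEq) {g : GG} {c : ℕ} (hg : IsCode c g) (hne : c ≠ pc1)
    (hp : parB c = 0) : (2 : ℤ) ∣ (mcnt isA isB g : ℤ) - (if g = 1 then 1 else 0) := by
  have h1 : g ≠ 1 := by
    rintro rfl
    exact hne (hg.code_unique isCode_one)
  rw [if_neg h1, mcnt_eq hce hg]
  rw [parB_eq] at hp
  omega

theorem hpar_one (hce : ClassEq) :
    (2 : ℤ) ∣ (mcnt isA isB (1 : GG) : ℤ) - (if (1 : GG) = 1 then 1 else 0) := by
  rw [if_pos rfl, mcnt_eq hce isCode_one]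
  have h2 := parB_1A
  rw [parB_eq] at h2
  omega

theorem even_of_pow {g : GG} {c : ℕ} (hg : IsCode c g) (m : ℕ) (h1 : ppow c (2 * m) = pc1)
    (h2 : ppow c m ≠ pc1) : 2 ∣ orderOf g := by
  have e1 : g ^ (2 * m) = 1 := (h1 ▸ isCode_ppow hg (2 * m)).elt_unique isCode_one
  have e2 : g ^ m ≠ 1 := by
    intro h
    apply h2
    exact (isCode_ppow hg m).code_unique (h ▸ isCode_one)
  by_contra hodd
  have hd : orderOf g ∣ 2 * m := orderOf_dvd_of_pow_eq_one e1
  have hc : Nat.Coprime (orderOf g) 2 := by
    rw [Nat.coprime_comm]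
    exact (Nat.Prime.coprime_iff_not_dvd Nat.prime_two).2 hodd
  exact e2 (orderOf_dvd_iff_pow_eq_one.1 (hc.dvd_of_dvd_mul_left hd))

theorem hpar_rep (hce : ClassEq) : ∀ p ∈ repT, 2 ∣ orderOf p.1 ∨
    (2 : ℤ) ∣ (mcnt isA isB p.1 : ℤ) - (if p.1 = 1 then 1 else 0) := by
  intro p hp
  have hpar_one := hpar_one hce
  have hpar_of_parB := @hpar_of_parB hce
  simp only [repT, List.mem_cons, List.not_mem_nil, or_false] at hp
  rcases hp with rfl | rfl | rfl | rfl | rfl | rfl | rfl | rfl | rfl | rfl | rfl | rfl | rfl | rfl | rfl | rfl | rfl | rfl | rfl | rfl | rfl | rfl | rfl | rfl | rfl | rfl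
  · right; exact hpar_one
  · left; exact even_of_pow isCode_g2A 1 (by decide +kernel) (by decide +kernel)
  · left; exact even_of_pow isCode_g2B 1 (by decide +kernel) (by decide +kernel)
  · right; exact hpar_of_parB isCode_g3A (by decide +kernel) parB_3A
  · right; exact hpar_of_parB isCode_g3B (by decide +kernel) parB_3B
  · left; exact even_of_pow isCode_g4A 2 (by decide +kernel) (by decide +kernel)
  · left; exact even_of_pow isCode_g4B 2 (by decide +kernel) (by decide +kernel)
  · left; exact even_of_pow isCode_g4C 2 (by decide +kernel) (by decide +kernel)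
  · right; exact hpar_of_parB isCode_g5A (by decide +kernel) parB_5A
  · left; exact even_of_pow isCode_g6A 3 (by decide +kernel) (by decide +kernel)
  · left; exact even_of_pow isCode_g6B 3 (by decide +kernel) (by decide +kernel)
  · right; exact hpar_of_parB isCode_g7A (by decide +kernel) parB_7A
  · right; exact hpar_of_parB isCode_g7B (by decide +kernel) parB_7B
  · left; exact even_of_pow isCode_g8A 4 (by decide +kernel) (by decide +kernel)
  · left; exact even_of_pow isCode_g10A 5 (by decide +kernel) (by decide +kernel)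
  · right; exact hpar_of_parB isCode_g11A (by decide +kernel) parB_11A
  · left; exact even_of_pow isCode_g12A 6 (by decide +kernel) (by decide +kernel)
  · left; exact even_of_pow isCode_g12B 6 (by decide +kernel) (by decide +kernel)
  · left; exact even_of_pow isCode_g14A 7 (by decide +kernel) (by decide +kernel)
  · left; exact even_of_pow isCode_g14B 7 (by decide +kernel) (by decide +kernel)
  · right; exact hpar_of_parB isCode_g15A (by decide +kernel) parB_15A
  · right; exact hpar_of_parB isCode_g15B (by decide +kernel) parB_15B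
  · right; exact hpar_of_parB isCode_g21A (by decide +kernel) parB_21A
  · right; exact hpar_of_parB isCode_g21B (by decide +kernel) parB_21B
  · right; exact hpar_of_parB isCode_g23A (by decide +kernel) parB_23A
  · right; exact hpar_of_parB isCode_g23B (by decide +kernel) parB_23B

/-- **no irreducible character of 2-defect zero** -/
theorem no_defect_zero_M24 (hce : ClassEq) {M : Ideal AlgInt} (hM : IsPModular 2 M)
    (θ : IrrCharacter GG) : ¬ 2 ^ (Nat.card GG).factorization 2 ∣ charDegree (θ : GG → ℂ) := by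
  refine no_defect_zero_of_parity hM isA isB isA_conj isB_conj
    (fun x hx => two_dvd_orderOf_of_isA hx) ?_ θ
  intro g hg
  obtain ⟨p, hp, hconj⟩ := hce.conj g
  have h1 : mcnt isA isB p.1 = mcnt isA isB g := mcnt_of_isConj isA_conj isB_conj hconj
  have h2 : orderOf p.1 = orderOf g := by
    obtain ⟨t, ht⟩ := isConj_iff.1 hconj
    rw [← ht, orderOf_conj']
  have h3 : (p.1 = 1) ↔ (g = 1) := by
    obtain ⟨t, ht⟩ := isConj_iff.1 hconj
    rw [← ht]
    exact conj_eq_one_iff
  rcases hpar_rep hce p hp with h | h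
  · rw [h2] at h; exact absurd h hg
  · rw [h1] at h
    by_cases hg1 : g = 1
    · rw [if_pos hg1]; rw [if_pos (h3.2 hg1)] at h; exact h
    · rw [if_neg hg1]; rw [if_neg (fun hh => hg1 (h3.1 hh))] at h; exact h

end Cfsg.Agent.Lib.Helper4.M24B
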