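import Cfsg.Agent.Lib.Helper4.M24B.B1D0
import Cfsg.Agent.Lib.Helper4.M24B.B1D1
import Cfsg.Agent.Lib.Helper4.M24B.B1D2
import Cfsg.Agent.Lib.Helper4.M24B.B1D3
import Cfsg.Agent.Lib.Helper4.M24B.B1D4
import Cfsg.Agent.Lib.Helper4.M24B.B1D5
import Cfsg.Agent.Lib.Helper4.M24B.B1D6
import Cfsg.Agent.Lib.Helper4.M24B.B1D7
import Cfsg.Agent.Lib.Helper4.M22B.SortR

/-! # M24: the involutions with 8 fixed points and the parity counts (generated) -/

set_option autoImplicit false
set_option maxRecDepth 100000

namespace Cfsg.Agent.Lib.Helper4.M24B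

open Cfsg Cfsg.Agent.Lib.Helper1 Cfsg.Agent.Lib.Helper1.PermCode

/-- the codes of the involutions with 8 fixed points -/
def B1L : List ℕ := b1c0 ++ b1c1 ++ b1c2 ++ b1c3 ++ b1c4 ++ b1c5 ++ b1c6 ++ b1c7

theorem B1L_length : B1L.length = 11385 := by decide +kernel

theorem B1L_inc : Cfsg.Agent.Lib.Helper4.M22B.incFrom B1L 0 = true := by decide +kernel

/-- the parity of the number of `x` in the list with `x * g` of one of the five types -/
def parB (cg : ℕ) : ℕ := Nat.mod (B1L.filter (fun c => isBc (pmu2 c cg))).length 2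

theorem parB_1A : parB pc1 = 1 := by decide +kernel
theorem parB_3A : parB c3A = 0 := by decide +kernel
theorem parB_3B : parB c3B = 0 := by decide +kernel
theorem parB_5A : parB c5A = 0 := by decide +kernel
theorem parB_7A : parB c7A = 0 := by decide +kernel
theorem parB_7B : parB c7B = 0 := by decide +kernel
theorem parB_11A : parB c11A = 0 := by decide +kernel
theorem parB_15A : parB c15A = 0 := by decide +kernel
theorem parB_15B : parB c15B = 0 := by decide +kernel
theorem parB_21A : parB c21A = 0 := by decide +kernel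
theorem parB_21B : parB c21B = 0 := by decide +kernel
theorem parB_23A : parB c23A = 0 := by decide +kernel
theorem parB_23B : parB c23B = 0 := by decide +kernel

end Cfsg.Agent.Lib.Helper4.M24B
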