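import Cfsg.Agent.Lib.Helper4.M24B.NoDZ
import Cfsg.Agent.Lib.Helper4.M24B.Act
import Cfsg.Agent.Lib.Helper4.M22B.Sem2

/-!
# M24: the types of elements used in the parity count, and counting with lists of codes
-/

set_option autoImplicit false

namespace Cfsg.Agent.Lib.Helper4.M24B

open Cfsg Cfsg.Agent.Lib.Helper1 Cfsg.Agent.Lib.Helper1.PermCode
open Cfsg.Agent.Lib.Helper4.M22B (fixF fixF_conj fixF_PD fixN)

/-- the number of fixed points -/
noncomputable def fx (x : GG) : ℕ := fixF (Φ x)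

theorem fx_conj (x h : GG) : fx (h * x * h⁻¹) = fx x := by
  unfold fx
  rw [map_mul, map_mul]
  exact fixF_conj (Φ h⁻¹) (Φ h) (Φ x) (by rw [← map_mul, inv_mul_cancel, map_one])
    (by rw [← map_mul, mul_inv_cancel, map_one])

theorem fx_eq (x : GG) : fx x = fixN (cd x) := by
  unfold fx
  rw [← (isCode_cd x).2, fixF_PD (isCode_cd x).1]

/-- the involutions with 8 fixed points -/
def isA (x : GG) : Prop := x * x = 1 ∧ fx x = 8

/-- on codes -/
def isAc (c : ℕ) : Bool := Nat.beq (pmu2 c c) pc1 && Nat.beq (fixN c) 8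

/-- the five types: the pair of the numbers of fixed points of `x` and `x * x` -/
def isB (x : GG) : Prop := 32 * fx x + fx (x * x) ∈ ({280, 8, 136, 70, 68} : Set ℕ)

/-- on codes -/
def isBc (c : ℕ) : Bool :=
  [280, 8, 136, 70, 68].contains (Nat.add (Nat.mul 32 (fixN c)) (fixN (pmu2 c c)))

theorem isA_conj (x h : GG) : isA (h * x * h⁻¹) ↔ isA x := by
  unfold isA
  rw [fx_conj]
  constructor
  · rintro ⟨h1, h2⟩
    refine ⟨?_, h2⟩
    have : x * x = h⁻¹ * ((h * x * h⁻¹) * (h * x * h⁻¹)) * h := by group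
    rw [this, h1]; group
  · rintro ⟨h1, h2⟩
    refine ⟨?_, h2⟩
    have : (h * x * h⁻¹) * (h * x * h⁻¹) = h * (x * x) * h⁻¹ := by group
    rw [this, h1]; group

theorem isB_conj (x h : GG) : isB (h * x * h⁻¹) ↔ isB x := by
  unfold isB
  have : (h * x * h⁻¹) * (h * x * h⁻¹) = h * (x * x) * h⁻¹ := by group
  rw [this, fx_conj, fx_conj]

theorem isA_iff (x : GG) : isA x ↔ isAc (cd x) = true := by
  unfold isA isAc
  rw [Bool.and_eq_true, ← fx_eq, ← cd_mul]
  constructor
  · rintro ⟨h1, h2⟩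
    rw [h1, cd_one, h2]
    exact ⟨Nat.beq_refl _, Nat.beq_refl _⟩
  · rintro ⟨h1, h2⟩
    refine ⟨?_, Nat.eq_of_beq_eq_true h2⟩
    apply cd_injective
    rw [cd_one]
    exact Nat.eq_of_beq_eq_true h1

theorem isB_iff (x : GG) : isB x ↔ isBc (cd x) = true := by
  unfold isB isBc
  rw [fx_eq, fx_eq, cd_mul, List.contains_iff_mem]
  simp only [Set.mem_insert_iff, Set.mem_singleton_iff, List.mem_cons, List.not_mem_nil, or_false]
  rfl

theorem fx_one : fx (1 : GG) = 24 := by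
  rw [fx_eq, cd_one]
  decide +kernel

theorem two_dvd_orderOf_of_isA {x : GG} (h : isA x) : 2 ∣ orderOf x := by
  have h1 : x ≠ 1 := by
    rintro rfl
    have := h.2
    rw [fx_one] at this
    omega
  have h2 : orderOf x ∣ 2 := orderOf_dvd_of_pow_eq_one (by rw [pow_two]; exact h.1)
  rcases (Nat.dvd_prime Nat.prime_two).1 h2 with h3 | h3
  · exact absurd (orderOf_eq_one_iff.1 h3) h1
  · rw [h3]

/-- counting with a list of codes -/
theorem mcnt_eq_of_list {A B : GG → Prop} (L : List ℕ) (hnd : L.Nodup)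
    (hA : ∀ x, A x ↔ cd x ∈ L) (hreal : ∀ c ∈ L, ∃ x : GG, IsCode c x) (g : GG) (Bc : ℕ → Bool)
    (hB : ∀ x, A x → (B (x⁻¹ * g) ↔ Bc (pmu2 (cd x) (cd g)) = true)) :
    mcnt A B g = (L.filter (fun c => Bc (pmu2 c (cd g)))).length := by
  classical
  unfold mcnt
  rw [← List.toFinset_card_of_nodup (hnd.filter _)]
  apply Finset.card_bij (fun x _ => cd x)
  · intro x hx
    rw [Finset.mem_filter] at hx
    rw [List.mem_toFinset, List.mem_filter]
    exact ⟨(hA x).1 hx.2.1, (hB x hx.2.1).1 hx.2.2⟩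
  · intro x _ y _ hxy
    exact cd_injective hxy
  · intro c hc
    rw [List.mem_toFinset, List.mem_filter] at hc
    obtain ⟨x, hx⟩ := hreal c hc.1
    have hcx : cd x = c := cd_eq hx
    have hAx : A x := (hA x).2 (hcx ▸ hc.1)
    refine ⟨x, ?_, hcx⟩
    rw [Finset.mem_filter]
    refine ⟨Finset.mem_univ _, hAx, (hB x hAx).2 ?_⟩
    rw [hcx]; exact hc.2

end Cfsg.Agent.Lib.Helper4.M24B
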