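import Cfsg.Agent.Lib.Helper4.M24B.B2Data

/-!
# M24: the Sylow 2-subgroups of the centralizers of the elements of orders 3, 5, 7 are not radical

For `D` a Sylow 2-subgroup of the centralizer of an element of order 3, 5 or 7 the centralizer of
`D` has a normal 2-subgroup not contained in `D` (`QR 2 D`).
-/

set_option autoImplicit false

namespace Cfsg.Agent.Lib.Helper4.M24B

open Cfsg Cfsg.Agent.Lib.Helper1 Cfsg.Agent.Lib.Helper1.PermCode

/-- an element commuting with a conjugate `z` of `g2A` and fixing the fixed points of `z` is an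
involution or `1` -/
theorem sq_eq_one_of_fix {z x : GG} (w : GG) (hz : w * g2A * w⁻¹ = z) (hc : x * z = z * x)
    (hfix : ∀ i, Φ z i = i → Φ x i = i) : x * x = 1 := by
  have hc' : (w⁻¹ * x * w) * g2A = g2A * (w⁻¹ * x * w) := by
    calc (w⁻¹ * x * w) * g2A = w⁻¹ * (x * (w * g2A * w⁻¹)) * w := by group
      _ = w⁻¹ * ((w * g2A * w⁻¹) * x) * w := by rw [hz, hc]
      _ = g2A * (w⁻¹ * x * w) := by group
  have hL := cd_mem_LC2A _ hc'
  have h8 : fix8 (cd (w⁻¹ * x * w)) = true := by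
    rw [fix8, List.all_eq_true]
    intro j hj
    have hO := List.all_eq_true.1 OL_fix j hj
    rw [Bool.and_eq_true] at hO
    have hj24 : j < 24 := Nat.le_of_ble_eq_true hO.1
    have hg : pd (cd g2A) j = j := by rw [cd_eq isCode_g2A]; exact Nat.eq_of_beq_eq_true hO.2
    have h1 : Φ g2A ⟨j, hj24⟩ = ⟨j, hj24⟩ := (Φ_fix_iff _ _).2 hg
    have h2 : Φ z (Φ w ⟨j, hj24⟩) = Φ w ⟨j, hj24⟩ := by
      rw [← hz, ← phi_mul_apply, inv_mul_cancel_right, phi_mul_apply, h1]
    have h3 := hfix _ h2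
    have h4 : Φ (w⁻¹ * x * w) ⟨j, hj24⟩ = ⟨j, hj24⟩ := by
      rw [phi_mul_apply, phi_mul_apply, h3, ← phi_mul_apply, inv_mul_cancel, phi_one_apply]
    have h5 := (Φ_fix_iff _ _).1 h4
    rw [h5]
    exact Nat.beq_refl j
  have h := List.all_eq_true.1 checkL1 _ hL
  rw [h8] at h
  have h' : pmu2 (cd (w⁻¹ * x * w)) (cd (w⁻¹ * x * w)) = pc1 := by
    apply Nat.eq_of_beq_eq_true
    simpa using h
  rw [← cd_mul, ← cd_one] at h'
  have h6 := cd_injective h'
  calc x * x = w * ((w⁻¹ * x * w) * (w⁻¹ * x * w)) * w⁻¹ := by group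
    _ = 1 := by rw [h6]; group

theorem mem_centralizer_closure_gset {codes : List ℕ} {r : GG} {cr : ℕ} (hr : IsCode cr r)
    (hcomm : codes.all (fun s => Nat.beq (pmu2 s cr) (pmu2 cr s)) = true) :
    r ∈ Subgroup.centralizer ((Subgroup.closure (gset codes) : Subgroup GG) : Set GG) := by
  rw [Subgroup.mem_centralizer_iff]
  intro d hd
  have := closure_gset_le_centralizer hr hcomm hd
  exact Subgroup.mem_centralizer_singleton_iff.1 this

/-- the witness is in `orbCent` -/
theorem QR_orb {gens gensI : List ℕ} (hcg : CodeGrp gens gensI) {cr : ℕ}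
    (hr : chkM24 (tabOf cr) cr = true)
    (hcomm : gens.all (fun s => Nat.beq (pmu2 s cr) (pmu2 cr s)) = true)
    (horb : (List.range 24).all (fun j => (prodsL gens).any
      (fun a => Nat.beq (pd cr j) (pd a j))) = true)
    (hnot : (prodsL gens).contains cr = false) : QR 2 (Subgroup.closure (gset gens)) := by
  haveI : Fact (Nat.Prime 2) := ⟨Nat.prime_two⟩
  have hrc : IsCode cr (gOfChk hr) := isCode_gOfChk hr
  refine ⟨orbCent Φ _, orbCent_isPGroup Φ Φ_injective _ hcg.isPGroup, orbCent_le Φ _,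
    orbCent_normal Φ _, ?_⟩
  intro hle
  have hmem : gOfChk hr ∈ orbCent Φ (Subgroup.closure (gset gens)) := by
    refine ⟨mem_centralizer_closure_gset hrc hcomm, fun i => ?_⟩
    have h1 := List.all_eq_true.1 horb i.val (List.mem_range.2 i.2)
    obtain ⟨a, ha, hab⟩ := List.any_eq_true.1 h1
    obtain ⟨d, hd, hdc⟩ := hcg.realized a ha
    refine ⟨d, hd, Φ_eq_of_pd ?_⟩
    rw [cd_eq hrc, cd_eq hdc]
    exact Nat.eq_of_beq_eq_true hab
  have h2 := hcg.cd_mem _ (hle hmem)
  rw [cd_eq hrc] at h2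
  have h3 := List.contains_iff_mem.2 h2
  rw [hnot] at h3
  exact Bool.false_ne_true h3

/-- the witness is in `fixCent` -/
theorem QR_fix {gens gensI : List ℕ} (hcg : CodeGrp gens gensI) {cr cz cw cwi : ℕ}
    (hr : chkM24 (tabOf cr) cr = true)
    (hcomm : gens.all (fun s => Nat.beq (pmu2 s cr) (pmu2 cr s)) = true)
    (hzmem : (prodsL gens).contains cz = true)
    (hw : chkM24 (tabOf cw) cw = true)
    (hwi : (Nat.beq (pmu2 cw cwi) pc1 && Nat.beq (pmu2 cwi pc1) cwi) = true)
    (hconj : pmu2 (pmu2 cw c2A) cwi = cz)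
    (hfix : (List.range 24).all
      (fun j => !(Nat.beq (pd cz j) j) || Nat.beq (pd cr j) j) = true)
    (hnot : (prodsL gens).contains cr = false) : QR 2 (Subgroup.closure (gset gens)) := by
  have hrc : IsCode cr (gOfChk hr) := isCode_gOfChk hr
  have hwc : IsCode cw (gOfChk hw) := isCode_gOfChk hw
  rw [Bool.and_eq_true] at hwi
  have hwic : IsCode cwi (gOfChk hw)⁻¹ :=
    hwc.inv_of_mul (canon_of_pmu2_pc1 (Nat.eq_of_beq_eq_true hwi.2)) (Nat.eq_of_beq_eq_true hwi.1)
  obtain ⟨z, hzD, hzc⟩ := hcg.realized cz (List.contains_iff_mem.1 hzmem)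
  have hzw : gOfChk hw * g2A * (gOfChk hw)⁻¹ = z := by
    apply IsCode.elt_unique (a := cz) _ hzc
    rw [← hconj]
    exact (hwc.mul isCode_g2A).mul hwic
  have hP : IsPGroup 2 (fixCent Φ (Subgroup.closure (gset gens)) z) := by
    intro x
    refine ⟨1, ?_⟩
    apply Subtype.ext
    rw [Subgroup.coe_pow, Subgroup.coe_one, pow_one, pow_two]
    have hxz : (x : GG) * z = z * x :=
      (Subgroup.mem_centralizer_iff.1 x.2.1 z hzD).symm
    exact sq_eq_one_of_fix _ hzw hxz x.2.2
  refine ⟨fixCent Φ _ z, hP, fixCent_le Φ _ z, fixCent_normal Φ _ hzD, ?_⟩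
  intro hle
  have hmem : gOfChk hr ∈ fixCent Φ (Subgroup.closure (gset gens)) z := by
    refine ⟨mem_centralizer_closure_gset hrc hcomm, fun i hi => ?_⟩
    have h1 := List.all_eq_true.1 hfix i.val (List.mem_range.2 i.2)
    rw [Φ_fix_iff, cd_eq hzc] at hi
    rw [Φ_fix_iff, cd_eq hrc]
    rw [Bool.or_eq_true] at h1
    rcases h1 with h1 | h1
    · rw [hi] at h1
      simp at h1
    · exact Nat.eq_of_beq_eq_true h1
  have h2 := hcg.cd_mem _ (hle hmem)
  rw [cd_eq hrc] at h2
  have h3 := List.contains_iff_mem.2 h2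
  rw [hnot] at h3
  exact Bool.false_ne_true h3

/-! ### the four subgroups -/

/-- a Sylow 2-subgroup of the centralizer of `g3A` -/
def D3A : Subgroup GG := Subgroup.closure (gset dg3A)
/-- a Sylow 2-subgroup of the centralizer of `g3B` -/
def D3B : Subgroup GG := Subgroup.closure (gset dg3B)
/-- a Sylow 2-subgroup of the centralizer of `g5A` -/
def D5A : Subgroup GG := Subgroup.closure (gset dg5A)
/-- a Sylow 2-subgroup of the centralizer of `g7A` -/
def D7A : Subgroup GG := Subgroup.closure (gset dg7A)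

theorem D3A_le : D3A ≤ Subgroup.centralizer ({g3A} : Set GG) :=
  closure_gset_le_centralizer isCode_g3A dcomm3A
theorem D3B_le : D3B ≤ Subgroup.centralizer ({g3B} : Set GG) :=
  closure_gset_le_centralizer isCode_g3B dcomm3B
theorem D5A_le : D5A ≤ Subgroup.centralizer ({g5A} : Set GG) :=
  closure_gset_le_centralizer isCode_g5A dcomm5A
theorem D7A_le : D7A ≤ Subgroup.centralizer ({g7A} : Set GG) :=
  closure_gset_le_centralizer isCode_g7A dcomm7A
theorem D7A_le' : D7A ≤ Subgroup.centralizer ({g7B} : Set GG) :=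
  closure_gset_le_centralizer isCode_g7B dcomm7B

theorem card_D3A : Nat.card D3A = 8 := cg3A.card
theorem card_D3B : Nat.card D3B = 8 := cg3B.card
theorem card_D5A : Nat.card D5A = 4 := cg5A.card
theorem card_D7A : Nat.card D7A = 2 := cg7A.card

theorem QR_D3A : QR 2 D3A :=
  QR_fix cg3A crchk3A crcomm3A czmem3A cwchk3A cwinv3A cwconj3A crfix3A crnot3A
theorem QR_D3B : QR 2 D3B := QR_orb cg3B crchk3B crcomm3B crorb3B crnot3B
theorem QR_D5A : QR 2 D5A := QR_orb cg5A crchk5A crcomm5A crorb5A crnot5A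
theorem QR_D7A : QR 2 D7A :=
  QR_fix cg7A crchk7A crcomm7A czmem7A cwchk7A cwinv7A cwconj7A crfix7A crnot7A

end Cfsg.Agent.Lib.Helper4.M24B
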