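import Cfsg.Agent.Lib.Helper4.M24B.C2A
import Cfsg.Agent.Lib.Helper4.M24B.Act

/-!
# M24: the Sylow 2-subgroups of the centralizers of the elements of orders 3, 5, 7 (data, generated)
-/

set_option autoImplicit false
set_option maxRecDepth 100000

namespace Cfsg.Agent.Lib.Helper4.M24B

open Cfsg Cfsg.Agent.Lib.Helper1 Cfsg.Agent.Lib.Helper1.PermCode

/-- the fixed points of `g2A` -/
def OL : List ℕ := [6, 7, 9, 10, 15, 19, 20, 21]

theorem OL_fix : OL.all (fun j => Nat.blt j 24 && Nat.beq (pd c2A j) j) = true := by decide +kernel

/-- the code fixes the fixed points of `g2A` -/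
def fix8 (c : ℕ) : Bool := OL.all (fun j => Nat.beq (pd c j) j)

theorem checkL1 : LC2A.all (fun c => !(fix8 c) || Nat.beq (pmu2 c c) pc1) = true := by decide +kernel

/-! ### the class `3A` -/

/-- generators of a Sylow 2-subgroup of the centralizer of `g3A` -/
def dg3A : List ℕ := [137946475452688126480473909395947682, 965128854020860192151391391390468128, 968708902336673183175954409307867168]

/-- their inverses -/
def dgI3A : List ℕ := [137946475452688126480473909395947682, 965128854020860192151391391390468128, 968708902336673183175954409307867168]

theorem cg3A : CodeGrp dg3A dgI3A := ⟨by decide +kernel, by decide +kernel, by decide +kernel, by decide +kernel⟩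

theorem dcomm3A : dg3A.all (fun s => Nat.beq (pmu2 s c3A) (pmu2 c3A s)) = true := by decide +kernel

/-- an element of the normal 2-subgroup of the centralizer of the Sylow subgroup, outside of it -/
def cr3A : ℕ := 961365507626256404119956257276790816

theorem crchk3A : chkM24 (tabOf cr3A) cr3A = true := by decide +kernel

theorem crcomm3A : dg3A.all (fun s => Nat.beq (pmu2 s cr3A) (pmu2 cr3A s)) = true := by decide +kernel

theorem crnot3A : (prodsL dg3A).contains cr3A = false := by decide +kernel

/-- the central involution -/
def cz3A : ℕ := 968708902336673183175954409307867168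

/-- a conjugator from `g2A` -/
def cw3A : ℕ := 186926545977493349453533634600612041

/-- its inverse -/
def cwi3A : ℕ := 267951359230116751427725268872740469

theorem czmem3A : (prodsL dg3A).contains cz3A = true := by decide +kernel

theorem cwchk3A : chkM24 (tabOf cw3A) cw3A = true := by decide +kernel

theorem cwinv3A : (Nat.beq (pmu2 cw3A cwi3A) pc1 && Nat.beq (pmu2 cwi3A pc1) cwi3A) = true := by decide +kernel

theorem cwconj3A : pmu2 (pmu2 cw3A c2A) cwi3A = cz3A := by decide +kernel

theorem crfix3A : (List.range 24).all
    (fun j => !(Nat.beq (pd cz3A j) j) || Nat.beq (pd cr3A j) j) = true := by decide +kernel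

/-! ### the class `3B` -/

/-- generators of a Sylow 2-subgroup of the centralizer of `g3B` -/
def dg3B : List ℕ := [510693430972940850957341352748666127, 426417839699979034377678090050916646, 194313698132403645648410005902229602]

/-- their inverses -/
def dgI3B : List ℕ := [510693430972940850957341352748666127, 727249345852851865509589991523916212, 194313698132403645648410005902229602]

theorem cg3B : CodeGrp dg3B dgI3B := ⟨by decide +kernel, by decide +kernel, by decide +kernel, by decide +kernel⟩

theorem dcomm3B : dg3B.all (fun s => Nat.beq (pmu2 s c3B) (pmu2 c3B s)) = true := by decide +kernel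

/-- an element of the normal 2-subgroup of the centralizer of the Sylow subgroup, outside of it -/
def cr3B : ℕ := 593755472742213701244582961441145346

theorem crchk3B : chkM24 (tabOf cr3B) cr3B = true := by decide +kernel

theorem crcomm3B : dg3B.all (fun s => Nat.beq (pmu2 s cr3B) (pmu2 cr3B s)) = true := by decide +kernel

theorem crnot3B : (prodsL dg3B).contains cr3B = false := by decide +kernel

theorem crorb3B : (List.range 24).all (fun j => (prodsL dg3B).any
    (fun a => Nat.beq (pd cr3B j) (pd a j))) = true := by decide +kernel

/-! ### the class `5A` -/

/-- generators of a Sylow 2-subgroup of the centralizer of `g5A` -/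
def dg5A : List ℕ := [391296258305705457700510190253675631, 587098524194568354235278632881376465]

/-- their inverses -/
def dgI5A : List ℕ := [391296258305705457700510190253675631, 587098524194568354235278632881376465]

theorem cg5A : CodeGrp dg5A dgI5A := ⟨by decide +kernel, by decide +kernel, by decide +kernel, by decide +kernel⟩

theorem dcomm5A : dg5A.all (fun s => Nat.beq (pmu2 s c5A) (pmu2 c5A s)) = true := by decide +kernel

/-- an element of the normal 2-subgroup of the centralizer of the Sylow subgroup, outside of it -/
def cr5A : ℕ := 379631697719329586838087983681341487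

theorem crchk5A : chkM24 (tabOf cr5A) cr5A = true := by decide +kernel

theorem crcomm5A : dg5A.all (fun s => Nat.beq (pmu2 s cr5A) (pmu2 cr5A s)) = true := by decide +kernel

theorem crnot5A : (prodsL dg5A).contains cr5A = false := by decide +kernel

theorem crorb5A : (List.range 24).all (fun j => (prodsL dg5A).any
    (fun a => Nat.beq (pd cr5A j) (pd a j))) = true := by decide +kernel

/-! ### the class `7A` -/

/-- generators of a Sylow 2-subgroup of the centralizer of `g7A` -/
def dg7A : List ℕ := [777126297232735061890423716205173229]

/-- their inverses -/
def dgI7A : List ℕ := [777126297232735061890423716205173229]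

theorem cg7A : CodeGrp dg7A dgI7A := ⟨by decide +kernel, by decide +kernel, by decide +kernel, by decide +kernel⟩

theorem dcomm7A : dg7A.all (fun s => Nat.beq (pmu2 s c7A) (pmu2 c7A s)) = true := by decide +kernel

/-- an element of the normal 2-subgroup of the centralizer of the Sylow subgroup, outside of it -/
def cr7A : ℕ := 735587957181966863951023041162974209

theorem crchk7A : chkM24 (tabOf cr7A) cr7A = true := by decide +kernel

theorem crcomm7A : dg7A.all (fun s => Nat.beq (pmu2 s cr7A) (pmu2 cr7A s)) = true := by decide +kernel

theorem crnot7A : (prodsL dg7A).contains cr7A = false := by decide +kernel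

theorem dcomm7B : dg7A.all (fun s => Nat.beq (pmu2 s c7B) (pmu2 c7B s)) = true := by decide +kernel

/-- the central involution -/
def cz7A : ℕ := 777126297232735061890423716205173229

/-- a conjugator from `g2A` -/
def cw7A : ℕ := 11992830576186974802877413627870253

/-- its inverse -/
def cwi7A : ℕ := 346084552811887962791599399433800759

theorem czmem7A : (prodsL dg7A).contains cz7A = true := by decide +kernel

theorem cwchk7A : chkM24 (tabOf cw7A) cw7A = true := by decide +kernel

theorem cwinv7A : (Nat.beq (pmu2 cw7A cwi7A) pc1 && Nat.beq (pmu2 cwi7A pc1) cwi7A) = true := by decide +kernel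

theorem cwconj7A : pmu2 (pmu2 cw7A c2A) cwi7A = cz7A := by decide +kernel

theorem crfix7A : (List.range 24).all
    (fun j => !(Nat.beq (pd cz7A j) j) || Nat.beq (pd cr7A j) j) = true := by decide +kernel

end Cfsg.Agent.Lib.Helper4.M24B
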