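import Cfsg.Agent.Lib.Helper4.M24B.B3C
import Cfsg.Agent.Lib.Helper4.M24B.Act

/-!
# M24: a Sylow 2-subgroup is its own normalizer (the proof)
-/

set_option autoImplicit false

namespace Cfsg.Agent.Lib.Helper4.M24B

open Cfsg Cfsg.Agent.Lib.Helper1 Cfsg.Agent.Lib.Helper1.PermCode

/-- the Sylow subgroup -/
def SS : Subgroup GG := Subgroup.closure (gset sgens)

theorem sgens_inv' : sgens.all (fun c => sgensI.any fun ci =>
    Nat.beq (pmu2 c ci) pc1 && Nat.beq (pmu2 ci pc1) ci) = true := by decide +kernel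

theorem SS_le : SS ≤ Subgroup.centralizer ({g2A} : Set GG) :=
  closure_gset_le_centralizer isCode_g2A sgens_comm

theorem SL_realized : ∀ a ∈ SL, ∃ x ∈ SS, IsCode a x :=
  prodsL_realized SS sgens (fun _ hs => exists_gen sgens_chk hs)

theorem mem_SL_of_predS {a : ℕ} (ha : a ∈ LC2A) (hp : predS a = true) : a ∈ SL := by
  have h := List.all_eq_true.1 checkA a ha
  unfold fA at h
  rw [Bool.or_eq_true, hp] at h
  rcases h with h | h
  · simp at h
  · exact List.contains_iff_mem.1 h

theorem predS_of_mem_SL {a : ℕ} (ha : a ∈ SL) : predS a = true :=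
  List.all_eq_true.1 checkB a ha

theorem cd_mem_SL : ∀ x ∈ SS, cd x ∈ SL := by
  intro x hx
  induction hx using Subgroup.closure_induction_right with
  | one => rw [cd_one]; exact List.contains_iff_mem.1 (by decide +kernel)
  | mul_right x hx y hy ih =>
    have hxy : x * y ∈ SS := mul_mem hx (Subgroup.subset_closure hy)
    have h1 : cd (x * y) ∈ LC2A := cd_mem_LC2A _
      (Subgroup.mem_centralizer_singleton_iff.1 (SS_le hxy))
    refine mem_SL_of_predS h1 ?_
    rw [cd_mul]
    have h2 := List.all_eq_true.1 (List.all_eq_true.1 checkC _ ih) (cd y)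
      (List.mem_append_left _ (cd_inv_mem sgens_inv' hy).1)
    exact h2
  | mul_inv_cancel x hx y hy ih =>
    have hxy : x * y⁻¹ ∈ SS := mul_mem hx (inv_mem (Subgroup.subset_closure hy))
    have h1 : cd (x * y⁻¹) ∈ LC2A := cd_mem_LC2A _
      (Subgroup.mem_centralizer_singleton_iff.1 (SS_le hxy))
    refine mem_SL_of_predS h1 ?_
    rw [cd_mul]
    have h2 := List.all_eq_true.1 (List.all_eq_true.1 checkC _ ih) (cd y⁻¹)
      (List.mem_append_right _ (cd_inv_mem sgens_inv' hy).2)
    exact h2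

theorem card_SS : Nat.card SS = 1024 := by
  rw [card_eq_length_of_codes SS SL SL_nodup cd_mem_SL SL_realized, SL_length]

theorem mem_SS_of_cd {x : GG} (h : cd x ∈ SL) : x ∈ SS := by
  obtain ⟨y, hy, hyc⟩ := SL_realized _ h
  rwa [(isCode_cd x).elt_unique hyc]

theorem g2A_mem_SS : g2A ∈ SS := by
  apply mem_SS_of_cd
  rw [cd_eq isCode_g2A]
  exact List.contains_iff_mem.1 c2A_mem_SL

theorem two_part_M24 : (Nat.card GG).factorization 2 = 10 := by
  rw [show Nat.card GG = 244823040 from Cfsg.Agent.Lib.Helper1.M24.card_M24]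
  have h1 : 10 ≤ (244823040 : ℕ).factorization 2 :=
    (Nat.prime_two.pow_dvd_iff_le_factorization (by norm_num)).mp (by norm_num)
  have h2 : ¬ 11 ≤ (244823040 : ℕ).factorization 2 := by
    intro h
    have := (Nat.prime_two.pow_dvd_iff_le_factorization (by norm_num)).mpr h
    norm_num at this
  omega

theorem g2A_ne_one : g2A ≠ 1 := by
  intro h
  have h1 := cd_eq isCode_g2A
  rw [h, cd_one] at h1
  revert h1
  decide +kernel

/-- the normalizer of the Sylow subgroup is the subgroup -/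
theorem normalizer_SS_le : Subgroup.normalizer (SS : Set GG) ≤ SS := by
  intro x hx
  rw [Subgroup.mem_normalizer_iff] at hx
  -- `x` centralizes `g2A`
  have hw : x * g2A * x⁻¹ ∈ SS := (hx g2A).1 g2A_mem_SS
  have hwc : ∀ s ∈ sgens, pmu2 (cd (x * g2A * x⁻¹)) s = pmu2 s (cd (x * g2A * x⁻¹)) := by
    intro s hs
    obtain ⟨y, hy, hyc⟩ := exists_gen sgens_chk hs
    have h1 : x⁻¹ * y * x ∈ SS := by
      rw [hx (x⁻¹ * y * x)]
      have : x * (x⁻¹ * y * x) * x⁻¹ = y := by group
      rw [this]; exact hy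
    have h2 : (x⁻¹ * y * x) * g2A = g2A * (x⁻¹ * y * x) :=
      Subgroup.mem_centralizer_singleton_iff.1 (SS_le h1)
    have h3 : (x * g2A * x⁻¹) * y = y * (x * g2A * x⁻¹) := by
      calc (x * g2A * x⁻¹) * y = x * (g2A * (x⁻¹ * y * x)) * x⁻¹ := by group
        _ = x * ((x⁻¹ * y * x) * g2A) * x⁻¹ := by rw [h2]
        _ = y * (x * g2A * x⁻¹) := by group
    rw [← cd_eq hyc, ← cd_mul, ← cd_mul, h3]
  have hz := List.all_eq_true.1 checkZ _ (cd_mem_SL _ hw)
  rw [Bool.or_eq_true, Bool.or_eq_true] at hz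
  have hcent : x * g2A = g2A * x := by
    rcases hz with (hz | hz) | hz
    · exfalso
      have h1 : cd (x * g2A * x⁻¹) = cd (1 : GG) := by
        rw [cd_one]; exact Nat.eq_of_beq_eq_true hz
      have h2 := cd_injective h1
      apply g2A_ne_one
      calc g2A = x⁻¹ * (x * g2A * x⁻¹) * x := by group
        _ = 1 := by rw [h2]; group
    · have h1 : cd (x * g2A * x⁻¹) = cd g2A := by
        rw [cd_eq isCode_g2A]; exact Nat.eq_of_beq_eq_true hz
      have h2 := cd_injective h1
      calc x * g2A = (x * g2A * x⁻¹) * x := by group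
        _ = g2A * x := by rw [h2]
    · exfalso
      obtain ⟨s, hs, hne⟩ := List.any_eq_true.1 hz
      rw [hwc s hs] at hne
      simp at hne
  -- the test
  have hL : cd x ∈ LC2A := cd_mem_LC2A x hcent
  have hD := List.all_eq_true.1 checkD _ hL
  unfold fD at hD
  rw [Bool.or_eq_true] at hD
  rcases hD with hD | hD
  · exact mem_SS_of_cd (mem_SL_of_predS hL hD)
  · exfalso
    rw [Bool.and_eq_true, Bool.and_eq_true] at hD
    obtain ⟨⟨h1, h2⟩, h3⟩ := hD
    have hxi : IsCode (pinv (cd x)) x⁻¹ :=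
      (isCode_cd x).inv_of_mul (canon_of_pmu2_pc1 (Nat.eq_of_beq_eq_true h2))
        (Nat.eq_of_beq_eq_true h1)
    obtain ⟨s, hs, hne⟩ := List.any_eq_true.1 h3
    obtain ⟨y, hy, hyc⟩ := exists_gen sgens_chk hs
    have h4 : x * y * x⁻¹ ∈ SS := (hx y).1 hy
    have h5 : IsCode (pmu2 (pmu2 (cd x) s) (pinv (cd x))) (x * y * x⁻¹) :=
      ((isCode_cd x).mul hyc).mul hxi
    have h6 := predS_of_mem_SL (cd_mem_SL _ h4)
    rw [cd_eq h5] at h6
    rw [h6] at hne
    simp at hne

/-- the Sylow 2-subgroup -/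
noncomputable def sylS : Sylow 2 GG :=
  haveI : Fact (Nat.Prime 2) := ⟨Nat.prime_two⟩
  Sylow.ofCard SS (by rw [card_SS, two_part_M24]; norm_num)

theorem isPGroup_normalizer_sylS :
    IsPGroup 2 (Subgroup.normalizer (((sylS : Sylow 2 GG) : Subgroup GG) : Set GG)) := by
  have h1 : ((sylS : Sylow 2 GG) : Subgroup GG) = SS := rfl
  rw [h1]
  have h2 : Subgroup.normalizer (SS : Set GG) = SS :=
    le_antisymm normalizer_SS_le Subgroup.le_normalizer
  rw [h2]
  exact IsPGroup.of_card (n := 10) (by rw [card_SS]; norm_num)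

end Cfsg.Agent.Lib.Helper4.M24B
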