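import Cfsg.Agent.Lib.Helper4.M24B.B3Data

/-! # M24: the two tests on the centralizer of `g2A` (generated) -/

set_option autoImplicit false
set_option maxRecDepth 100000

namespace Cfsg.Agent.Lib.Helper4.M24B

open Cfsg Cfsg.Agent.Lib.Helper1 Cfsg.Agent.Lib.Helper1.PermCode

theorem chkA_12 : L2A_12.all fA = true := by decide +kernel

theorem chkD_12 : L2A_12.all fD = true := by decide +kernel

theorem chkA_13 : L2A_13.all fA = true := by decide +kernel

theorem chkD_13 : L2A_13.all fD = true := by decide +kernel

theorem chkA_14 : L2A_14.all fA = true := by decide +kernel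

theorem chkD_14 : L2A_14.all fD = true := by decide +kernel

theorem chkA_16 : L2A_16.all fA = true := by decide +kernel

theorem chkD_16 : L2A_16.all fD = true := by decide +kernel

end Cfsg.Agent.Lib.Helper4.M24B
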