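import Cfsg.Agent.Lib.Helper4.M24B.B3Data

/-! # M24: the two tests on the centralizer of `g2A` (generated) -/

set_option autoImplicit false
set_option maxRecDepth 100000

namespace Cfsg.Agent.Lib.Helper4.M24B

open Cfsg Cfsg.Agent.Lib.Helper1 Cfsg.Agent.Lib.Helper1.PermCode

theorem chkA_17 : L2A_17.all fA = true := by decide +kernel

theorem chkD_17 : L2A_17.all fD = true := by decide +kernel

theorem chkA_18 : L2A_18.all fA = true := by decide +kernel

theorem chkD_18 : L2A_18.all fD = true := by decide +kernel

theorem chkA_22 : L2A_22.all fA = true := by decide +kernel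

theorem chkD_22 : L2A_22.all fD = true := by decide +kernel

theorem chkA_23 : L2A_23.all fA = true := by decide +kernel

theorem chkD_23 : L2A_23.all fD = true := by decide +kernel

end Cfsg.Agent.Lib.Helper4.M24B
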