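import Cfsg.Agent.Lib.Helper4.M24B.B3C_0
import Cfsg.Agent.Lib.Helper4.M24B.B3C_1
import Cfsg.Agent.Lib.Helper4.M24B.B3C_2
import Cfsg.Agent.Lib.Helper4.M24B.B3C_3

/-! # M24: the two tests on the centralizer of `g2A` (generated) -/

set_option autoImplicit false
set_option maxRecDepth 100000

namespace Cfsg.Agent.Lib.Helper4.M24B

open Cfsg Cfsg.Agent.Lib.Helper1 Cfsg.Agent.Lib.Helper1.PermCode

theorem chkA_6 : L2A_6.all fA = true := rfl

theorem chkD_6 : L2A_6.all fD = true := rfl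

theorem chkA_7 : L2A_7.all fA = true := rfl

theorem chkD_7 : L2A_7.all fD = true := rfl

theorem chkA_9 : L2A_9.all fA = true := rfl

theorem chkD_9 : L2A_9.all fD = true := rfl

theorem chkA_10 : L2A_10.all fA = true := rfl

theorem chkD_10 : L2A_10.all fD = true := rfl

theorem chkA_15 : L2A_15.all fA = true := rfl

theorem chkD_15 : L2A_15.all fD = true := rfl

theorem chkA_19 : L2A_19.all fA = true := rfl

theorem chkD_19 : L2A_19.all fD = true := rfl

theorem chkA_20 : L2A_20.all fA = true := rfl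

theorem chkD_20 : L2A_20.all fD = true := rfl

theorem chkA_21 : L2A_21.all fA = true := rfl

theorem chkD_21 : L2A_21.all fD = true := rfl

theorem all_LC2A (f : ℕ → Bool) (h : [L2A_0, L2A_1, L2A_2, L2A_3, L2A_4, L2A_5, L2A_6, L2A_7, L2A_8,
    L2A_9, L2A_10, L2A_11, L2A_12, L2A_13, L2A_14, L2A_15, L2A_16, L2A_17, L2A_18, L2A_19, L2A_20,
    L2A_21, L2A_22, L2A_23].all (fun l => l.all f) = true) : LC2A.all f = true := by
  rw [List.all_eq_true] at h ⊢
  intro c hc
  obtain ⟨l, hl, hcl⟩ := List.mem_flatten.1 hc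
  exact List.all_eq_true.1 (h l hl) c hcl

theorem checkA : LC2A.all fA = true := by
  apply all_LC2A
  simp only [List.all_cons, List.all_nil, Bool.and_true, Bool.and_eq_true]
  exact ⟨chkA_0, chkA_1, chkA_2, chkA_3, chkA_4, chkA_5, chkA_6, chkA_7, chkA_8, chkA_9, chkA_10, chkA_11, chkA_12, chkA_13, chkA_14, chkA_15, chkA_16, chkA_17, chkA_18, chkA_19, chkA_20, chkA_21, chkA_22, chkA_23⟩

theorem checkD : LC2A.all fD = true := by
  apply all_LC2A
  simp only [List.all_cons, List.all_nil, Bool.and_true, Bool.and_eq_true]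
  exact ⟨chkD_0, chkD_1, chkD_2, chkD_3, chkD_4, chkD_5, chkD_6, chkD_7, chkD_8, chkD_9, chkD_10, chkD_11, chkD_12, chkD_13, chkD_14, chkD_15, chkD_16, chkD_17, chkD_18, chkD_19, chkD_20, chkD_21, chkD_22, chkD_23⟩

end Cfsg.Agent.Lib.Helper4.M24B
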