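import Cfsg.Agent.Lib.Helper4.M24B.B3Data

/-! # M24: the two tests on the centralizer of `g2A` (generated) -/

set_option autoImplicit false
set_option maxRecDepth 100000

namespace Cfsg.Agent.Lib.Helper4.M24B

open Cfsg Cfsg.Agent.Lib.Helper1 Cfsg.Agent.Lib.Helper1.PermCode

theorem chkA_0 : L2A_0.all fA = true := by decide +kernel

theorem chkD_0 : L2A_0.all fD = true := by decide +kernel

theorem chkA_1 : L2A_1.all fA = true := by decide +kernel

theorem chkD_1 : L2A_1.all fD = true := by decide +kernel

theorem chkA_2 : L2A_2.all fA = true := by decide +kernel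

theorem chkD_2 : L2A_2.all fD = true := by decide +kernel

theorem chkA_3 : L2A_3.all fA = true := by decide +kernel

theorem chkD_3 : L2A_3.all fD = true := by decide +kernel

end Cfsg.Agent.Lib.Helper4.M24B
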