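import Cfsg.Agent.Lib.Helper4.M24B.Split

/-!
# M24: the codes produced by sifting are codes of elements; subgroups given by lists of codes
-/

set_option autoImplicit false

namespace Cfsg.Agent.Lib.Helper4.M24B

open Cfsg Cfsg.Agent.Lib.Helper1 Cfsg.Agent.Lib.Helper1.PermCode

/-- all the points met while sifting are in the orbits -/
def siftV : List Lvl → List ℕ → Bool
  | [], _ => true
  | L :: Ls, τ =>
    Nat.blt (τ.headD 0) 24 && L.pred (τ.headD 0) &&
      siftV Ls (τ.tail.map fun t => pd (L.ui (τ.headD 0)) t)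

theorem siftT_sound : ∀ (Ls : List Lvl) (fx : List ℕ), ChainOK fx Ls → ∀ τ : List ℕ,
    siftV Ls τ = true → ∃ x : GG, IsCode (siftT Ls τ) x := by
  intro Ls
  induction Ls with
  | nil => intro fx _ τ _; exact ⟨1, isCode_one⟩
  | cons L Ls ih =>
    intro fx hOK τ hv
    obtain ⟨hL, hOK'⟩ := hOK
    rw [siftV, Bool.and_eq_true, Bool.and_eq_true] at hv
    obtain ⟨⟨hq, hp⟩, hv'⟩ := hv
    have hq' : τ.headD 0 < 24 := by
      have : Nat.ble (τ.headD 0 + 1) 24 = true := hq
      exact Nat.le_of_ble_eq_true this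
    obtain ⟨-, hchk, -, -, -, -, hne⟩ := lvlChk_of_all hL.chk hq' hp
    obtain ⟨x', hx'⟩ := ih _ hOK' _ hv'
    have hb : Nat.beq (L.u (τ.headD 0)) 0 = false := by
      rw [Bool.eq_false_iff]
      intro h
      exact hne (Nat.eq_of_beq_eq_true h)
    refine ⟨gOfChk hchk * x', ?_⟩
    rw [siftT, hb]
    exact (isCode_gOfChk hchk).mul hx'

/-- the code is the code of an element of the group -/
def realB (c : ℕ) : Bool :=
  siftV chain (baseL.map (pd c)) && Nat.beq (siftT chain (baseL.map (pd c))) c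

theorem exists_of_realB {c : ℕ} (h : realB c = true) : ∃ x : GG, IsCode c x := by
  rw [realB, Bool.and_eq_true] at h
  obtain ⟨x, hx⟩ := siftT_sound chain [] chain_ok _ h.1
  rw [Nat.eq_of_beq_eq_true h.2] at hx
  exact ⟨x, hx⟩

/-! ### products -/

/-- all the products of sublists (the later terms first) -/
def prodsL : List ℕ → List ℕ
  | [] => [pc1]
  | s :: ss => prodsL ss ++ (prodsL ss).map (fun a => pmu2 a s)

theorem prodsL_realized (K : Subgroup GG) : ∀ ss : List ℕ, (∀ s ∈ ss, ∃ x ∈ K, IsCode s x) →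
    ∀ a ∈ prodsL ss, ∃ x ∈ K, IsCode a x := by
  intro ss
  induction ss with
  | nil =>
    intro _ a ha
    rw [prodsL, List.mem_singleton] at ha
    exact ⟨1, one_mem K, ha ▸ isCode_one⟩
  | cons s ss ih =>
    intro h a ha
    have ih' := ih (fun s' hs' => h s' (List.mem_cons_of_mem _ hs'))
    rw [prodsL, List.mem_append, List.mem_map] at ha
    rcases ha with ha | ⟨b, hb, rfl⟩
    · exact ih' a ha
    · obtain ⟨x, hx, hxc⟩ := ih' b hb
      obtain ⟨y, hy, hyc⟩ := h s List.mem_cons_self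
      exact ⟨x * y, mul_mem hx hy, hxc.mul hyc⟩

/-- the codes of the elements of a subgroup generated by a set -/
theorem cd_mem_of_mem_closure (S : Set GG) (Q : ℕ → Prop) (h1 : Q pc1)
    (hmul : ∀ a, Q a → ∀ x ∈ S, Q (pmu2 a (cd x)))
    (hinv : ∀ a, Q a → ∀ x ∈ S, Q (pmu2 a (cd x⁻¹))) :
    ∀ x ∈ Subgroup.closure S, Q (cd x) := by
  intro x hx
  induction hx using Subgroup.closure_induction_right with
  | one => rw [cd_one]; exact h1
  | mul_right x hx y hy ih => rw [cd_mul]; exact hmul _ ih y hy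
  | mul_inv_cancel x hx y hy ih => rw [cd_mul]; exact hinv _ ih y hy

/-- the order of a subgroup given by a list of codes -/
theorem card_eq_length_of_codes (K : Subgroup GG) (L : List ℕ) (hnd : L.Nodup)
    (h1 : ∀ x ∈ K, cd x ∈ L) (h2 : ∀ a ∈ L, ∃ x ∈ K, IsCode a x) : Nat.card K = L.length := by
  classical
  have e : K ≃ {a // a ∈ L.toFinset} :=
    Equiv.ofBijective (fun x => ⟨cd x.1, List.mem_toFinset.2 (h1 x.1 x.2)⟩) ⟨by
      intro x y hxy
      apply Subtype.ext
      apply cd_injective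
      exact congrArg Subtype.val hxy, by
      rintro ⟨a, ha⟩
      obtain ⟨x, hx, hxc⟩ := h2 a (List.mem_toFinset.1 ha)
      exact ⟨⟨x, hx⟩, Subtype.ext (cd_eq hxc)⟩⟩
  rw [Nat.card_congr e, Nat.card_eq_fintype_card, Fintype.card_coe,
    List.toFinset_card_of_nodup hnd]

end Cfsg.Agent.Lib.Helper4.M24B
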