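import Cfsg.Agent.Lib.Helper4.M24B.C2A
import Cfsg.Agent.Lib.Helper4.M24B.SiftS

/-!
# M24: a Sylow 2-subgroup is its own normalizer

`S` is generated by ten elements of the centralizer of the involution `g2A`; the elements of this
centralizer are listed in `LC2A`.
-/

set_option autoImplicit false
set_option maxRecDepth 100000

namespace Cfsg.Agent.Lib.Helper4.M24B

open Cfsg Cfsg.Agent.Lib.Helper1 Cfsg.Agent.Lib.Helper1.PermCode

/-- the label of the pair of a point -/
def pairId (x : ℕ) : ℕ := Nat.land (Nat.shiftRight 39775897465544507392 (Nat.mul 3 x)) 7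

/-- the label of the block of a point -/
def blkId (x : ℕ) : ℕ := Nat.land (Nat.shiftRight 10447510327296 (Nat.mul 2 x)) 3

/-- the test for the Sylow subgroup, on the codes of the centralizer -/
def predS (c : ℕ) : Bool :=
  Nat.beq (pairId (Nat.land (Nat.shiftRight c (Nat.mul 5 6)) 31)) (pairId (Nat.land (Nat.shiftRight c (Nat.mul 5 7)) 31)) &&
  Nat.beq (pairId (Nat.land (Nat.shiftRight c (Nat.mul 5 9)) 31)) (pairId (Nat.land (Nat.shiftRight c (Nat.mul 5 20)) 31)) &&
  Nat.beq (pairId (Nat.land (Nat.shiftRight c (Nat.mul 5 10)) 31)) (pairId (Nat.land (Nat.shiftRight c (Nat.mul 5 15)) 31)) &&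
  Nat.beq (pairId (Nat.land (Nat.shiftRight c (Nat.mul 5 19)) 31)) (pairId (Nat.land (Nat.shiftRight c (Nat.mul 5 21)) 31)) &&
  Nat.beq (blkId (Nat.land (Nat.shiftRight c (Nat.mul 5 6)) 31)) (blkId (Nat.land (Nat.shiftRight c (Nat.mul 5 9)) 31))

/-- the code of the inverse (for the codes of permutations) -/
def pinv (c : ℕ) : ℕ := (Nat.add (Nat.add (Nat.add (Nat.add (Nat.add (Nat.add (Nat.add (Nat.add (Nat.add (Nat.add (Nat.add (Nat.add (Nat.add (Nat.add (Nat.add (Nat.add (Nat.add (Nat.add (Nat.add (Nat.add (Nat.add (Nat.add (Nat.add (Nat.add 0 (Nat.shiftLeft 0 (Nat.mul 5 (Nat.land (Nat.shiftRight c (Nat.mul 5 0)) 31)))) (Nat.shiftLeft 1 (Nat.mul 5 (Nat.land (Nat.shiftRight c (Nat.mul 5 1)) 31)))) (Nat.shiftLeft 2 (Nat.mul 5 (Nat.land (Nat.shiftRight c (Nat.mul 5 2)) 31)))) (Nat.shiftLeft 3 (Nat.mul 5 (Nat.land (Nat.shiftRight c (Nat.mul 5 3)) 31)))) (Nat.shiftLeft 4 (Nat.mul 5 (Nat.land (Nat.shiftRight c (Nat.mul 5 4)) 31)))) (Nat.shiftLeft 5 (Nat.mul 5 (Nat.land (Nat.shiftRight c (Nat.mul 5 5))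 31)))) (Nat.shiftLeft 6 (Nat.mul 5 (Nat.land (Nat.shiftRight c (Nat.mul 5 6)) 31)))) (Nat.shiftLeft 7 (Nat.mul 5 (Nat.land (Nat.shiftRight c (Nat.mul 5 7)) 31)))) (Nat.shiftLeft 8 (Nat.mul 5 (Nat.land (Nat.shiftRight c (Nat.mul 5 8)) 31)))) (Nat.shiftLeft 9 (Nat.mul 5 (Nat.land (Nat.shiftRight c (Nat.mul 5 9)) 31)))) (Nat.shiftLeft 10 (Nat.mul 5 (Nat.land (Nat.shiftRight c (Nat.mul 5 10)) 31)))) (Nat.shiftLeft 11 (Nat.mul 5 (Nat.land (Nat.shiftRight c (Nat.mul 5 11)) 31)))) (Nat.shiftLeft 12 (Nat.mul 5 (Nat.land (Nat.shiftRight c (Nat.mul 5 12)) 31)))) (Nat.shiftLeft 13 (Nat.mul 5 (Nat.land (Nat.shiftRight c (Nat.mul 5 13)) 31)))) (Nat.shiftLeft 14 (Nat.mul 5 (Nat.land (Nat.shiftRight c (Nat.mul 5 14)) 31)))) (Nat.shiftLeft 15 (Nat.mul 5 (Nat.land (Nat.shiftRight c (Nat.mul 5 15)) 31)))) (Nat.shiftLeft 16 (Nat.mul 5 (Nat.land (Nat.shiftRight c (Nat.mul 5 16)) 31)))) (Nat.shiftLeft 17 (Nat.mul 5 (Nat.land (Nat.shiftRight c (Nat.mul 5 17)) 31)))) (Nat.shiftLeft 18 (Nat.mul 5 (Nat.land (Nat.shiftRight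 c (Nat.mul 5 18)) 31)))) (Nat.shiftLeft 19 (Nat.mul 5 (Nat.land (Nat.shiftRight c (Nat.mul 5 19)) 31)))) (Nat.shiftLeft 20 (Nat.mul 5 (Nat.land (Nat.shiftRight c (Nat.mul 5 20)) 31)))) (Nat.shiftLeft 21 (Nat.mul 5 (Nat.land (Nat.shiftRight c (Nat.mul 5 21)) 31)))) (Nat.shiftLeft 22 (Nat.mul 5 (Nat.land (Nat.shiftRight c (Nat.mul 5 22)) 31)))) (Nat.shiftLeft 23 (Nat.mul 5 (Nat.land (Nat.shiftRight c (Nat.mul 5 23)) 31))))

/-- the codes of the generators, the last one first -/
def sgens : List ℕ := [139204770852770924366081939051918469, 961354090298515182585206667413506432, 218339165215925958356173395577256483, 47568959049642366828168690910321666, 766278903463752979363066922071928076, 564161132718033323480814030465063428, 464195468685143682893033583082484296, 517416510380188224552786912555216146, 461694314477177496907179355862151752, 21647169741103660076458455793304663]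

/-- the codes of their inverses -/
def sgensI : List ℕ := [218900815284276690869928709473416323, 978230323320832050613288444778426944, 139156626939498491878825790458054085, 100789998202292573374030437629330145, 520942905134869725935475705611690354, 709545465208420142038186971177030766, 464195468685143682893033583082484296, 517416510380188224552786912555216146, 461694314477177496907179355862151752, 21647169741103660076458455793304663]

/-- the codes of the elements of the Sylow subgroup -/
def SL : List ℕ := prodsL sgens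

theorem SL_length : SL.length = 1024 := by decide +kernel

theorem SL_nodup : SL.Nodup := by decide +kernel

theorem sgens_chk : sgens.all (fun c => chkM24 (tabOf c) c) = true := by decide +kernel

theorem sgens_inv : (sgens.zip sgensI).all
    (fun p => Nat.beq (pmu2 p.1 p.2) pc1 && Nat.beq (pmu2 p.2 pc1) p.2) = true := by decide +kernel

theorem sgens_comm : sgens.all (fun s => Nat.beq (pmu2 s c2A) (pmu2 c2A s)) = true := by
  decide +kernel

/-- A: the elements of the centralizer passing the test are in the list -/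
def fA (c : ℕ) : Bool := !predS c || SL.contains c

/-- B: the elements of the list pass the test -/
theorem checkB : SL.all predS = true := by decide +kernel

/-- C: the list is closed under the multiplication by the generators and their inverses -/
theorem checkC : SL.all (fun a => (sgens ++ sgensI).all fun s => predS (pmu2 a s)) = true := by
  decide +kernel

/-- Z: the centre -/
theorem checkZ : SL.all (fun a => Nat.beq a pc1 || Nat.beq a c2A ||
    sgens.any (fun s => !Nat.beq (pmu2 a s) (pmu2 s a))) = true := by decide +kernel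

theorem c2A_mem_SL : SL.contains c2A = true := by decide +kernel

/-- D: an element of the centralizer normalizing the subgroup passes the test -/
def fD (c : ℕ) : Bool := predS c ||
    (Nat.beq (pmu2 c (pinv c)) pc1 && Nat.beq (pmu2 (pinv c) pc1) (pinv c) &&
      sgens.any (fun s => !predS (pmu2 (pmu2 c s) (pinv c))))

end Cfsg.Agent.Lib.Helper4.M24B
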