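import Cfsg.Agent.Lib.Helper4.M24B.C2A_0
import Cfsg.Agent.Lib.Helper4.M24B.C2A_1
import Cfsg.Agent.Lib.Helper4.M24B.C2A_2
import Cfsg.Agent.Lib.Helper4.M24B.C2A_3
import Cfsg.Agent.Lib.Helper4.M24B.C2A_4
import Cfsg.Agent.Lib.Helper4.M24B.C2A_5
import Cfsg.Agent.Lib.Helper4.M24B.C2A_6
import Cfsg.Agent.Lib.Helper4.M24B.C2A_7

/-! # M24: the centralizer of the involution `g2A` as a list of codes (generated) -/

set_option autoImplicit false
set_option maxRecDepth 100000

namespace Cfsg.Agent.Lib.Helper4.M24B

open Cfsg Cfsg.Agent.Lib.Helper1 Cfsg.Agent.Lib.Helper1.PermCode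

/-- the codes of the branch `6` -/
def L2A_6 : List ℕ := []

theorem br2A_6 : (branch0 c2A c2A spec2A 6).map (candC spec2A) = L2A_6 := by decide +kernel

/-- the codes of the branch `7` -/
def L2A_7 : List ℕ := []

theorem br2A_7 : (branch0 c2A c2A spec2A 7).map (candC spec2A) = L2A_7 := by decide +kernel

/-- the codes of the branch `9` -/
def L2A_9 : List ℕ := []

theorem br2A_9 : (branch0 c2A c2A spec2A 9).map (candC spec2A) = L2A_9 := by decide +kernel

/-- the codes of the branch `10` -/
def L2A_10 : List ℕ := []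

theorem br2A_10 : (branch0 c2A c2A spec2A 10).map (candC spec2A) = L2A_10 := by decide +kernel

/-- the codes of the branch `15` -/
def L2A_15 : List ℕ := []

theorem br2A_15 : (branch0 c2A c2A spec2A 15).map (candC spec2A) = L2A_15 := by decide +kernel

/-- the codes of the branch `19` -/
def L2A_19 : List ℕ := []

theorem br2A_19 : (branch0 c2A c2A spec2A 19).map (candC spec2A) = L2A_19 := by decide +kernel

/-- the codes of the branch `20` -/
def L2A_20 : List ℕ := []

theorem br2A_20 : (branch0 c2A c2A spec2A 20).map (candC spec2A) = L2A_20 := by decide +kernel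

/-- the codes of the branch `21` -/
def L2A_21 : List ℕ := []

theorem br2A_21 : (branch0 c2A c2A spec2A 21).map (candC spec2A) = L2A_21 := by decide +kernel

/-- the centralizer of `g2A`, as codes -/
def LC2A : List ℕ := [L2A_0, L2A_1, L2A_2, L2A_3, L2A_4, L2A_5, L2A_6, L2A_7, L2A_8, L2A_9, L2A_10, L2A_11, L2A_12, L2A_13, L2A_14, L2A_15, L2A_16, L2A_17, L2A_18, L2A_19, L2A_20, L2A_21, L2A_22, L2A_23].flatten

theorem map_stepL_2A : (stepL c2A c2A spec2A chain spec2A [] []).map (candC spec2A) = LC2A := by
  refine map_stepL_of_branches c2A c2A spec2A (by decide) _ rfl ?_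
  intro x hx
  interval_cases x
  · exact br2A_0
  · exact br2A_1
  · exact br2A_2
  · exact br2A_3
  · exact br2A_4
  · exact br2A_5
  · exact br2A_6
  · exact br2A_7
  · exact br2A_8
  · exact br2A_9
  · exact br2A_10
  · exact br2A_11
  · exact br2A_12
  · exact br2A_13
  · exact br2A_14
  · exact br2A_15
  · exact br2A_16
  · exact br2A_17
  · exact br2A_18
  · exact br2A_19
  · exact br2A_20
  · exact br2A_21
  · exact br2A_22
  · exact br2A_23

theorem length_LC2A : LC2A.length = 21504 := by decide +kernel

theorem length_stepL_2A : (stepL c2A c2A spec2A chain spec2A [] []).length = 21504 := by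
  rw [← length_LC2A, ← map_stepL_2A, List.length_map]

/-- every element commuting with `g2A` has its code in the list -/
theorem cd_mem_LC2A (c : GG) (hc : c * g2A = g2A * c) : cd c ∈ LC2A :=
  cd_mem_of_commute sok2A isCode_g2A map_stepL_2A c hc

end Cfsg.Agent.Lib.Helper4.M24B
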