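import Cfsg.Agent.Lib.Helper4.M24B.Split

/-! # M24: the centralizer of the involution `g2B`, four branches of the search (generated) -/

set_option autoImplicit false
set_option maxRecDepth 100000

namespace Cfsg.Agent.Lib.Helper4.M24B

open Cfsg Cfsg.Agent.Lib.Helper1 Cfsg.Agent.Lib.Helper1.PermCode

theorem br2B_20 : (branch0 c2B c2B spec2B 20).length = 320 := by decide +kernel

theorem br2B_21 : (branch0 c2B c2B spec2B 21).length = 320 := by decide +kernel

theorem br2B_22 : (branch0 c2B c2B spec2B 22).length = 320 := by decide +kernel

theorem br2B_23 : (branch0 c2B c2B spec2B 23).length = 320 := by decide +kernel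

end Cfsg.Agent.Lib.Helper4.M24B
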