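import Cfsg.Agent.Lib.Helper4.M24B.C2B_0
import Cfsg.Agent.Lib.Helper4.M24B.C2B_1
import Cfsg.Agent.Lib.Helper4.M24B.C2B_2
import Cfsg.Agent.Lib.Helper4.M24B.C2B_3
import Cfsg.Agent.Lib.Helper4.M24B.C2B_4
import Cfsg.Agent.Lib.Helper4.M24B.C2B_5

/-! # M24: the number of elements found by the search of the centralizer of `g2B` (generated) -/

set_option autoImplicit false
set_option maxRecDepth 100000

namespace Cfsg.Agent.Lib.Helper4.M24B

open Cfsg Cfsg.Agent.Lib.Helper1 Cfsg.Agent.Lib.Helper1.PermCode

theorem length_stepL_2B : (stepL c2B c2B spec2B chain spec2B [] []).length = 7680 := by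
  have h := length_stepL_of_branches c2B c2B spec2B (by decide) [320, 320, 320, 320, 320, 320, 320, 320, 320, 320, 320, 320, 320, 320, 320, 320, 320, 320, 320, 320, 320, 320, 320, 320] rfl ?_
  · rw [h]; rfl
  · intro x hx
    interval_cases x
    · exact br2B_0
    · exact br2B_1
    · exact br2B_2
    · exact br2B_3
    · exact br2B_4
    · exact br2B_5
    · exact br2B_6
    · exact br2B_7
    · exact br2B_8
    · exact br2B_9
    · exact br2B_10
    · exact br2B_11
    · exact br2B_12
    · exact br2B_13
    · exact br2B_14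
    · exact br2B_15
    · exact br2B_16
    · exact br2B_17
    · exact br2B_18
    · exact br2B_19
    · exact br2B_20
    · exact br2B_21
    · exact br2B_22
    · exact br2B_23

end Cfsg.Agent.Lib.Helper4.M24B
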