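import Cfsg.Agent.Lib.Helper4.M24B.ChainData

/-!
# M24: the chain of stabilizers is correct
-/

set_option autoImplicit false
set_option maxRecDepth 100000

namespace Cfsg.Agent.Lib.Helper4.M24B

open Cfsg Cfsg.Agent.Lib.Helper1 Cfsg.Agent.Lib.Helper1.PermCode
open Cfsg.Agent.Lib.Helper1.M24 (up_generic up5 up6 stab_trivial O₀)

theorem fixes_of_pd {c : GG} {cc : ℕ} (hc : IsCode cc c) {fx : List ℕ} (hfx : ∀ j ∈ fx, j < 24)
    (hfix : ∀ j ∈ fx, pd cc j = j) :
    ∀ j ∈ fx, (c : Equiv.Perm GolayPt) (gUnidx j) = gUnidx j :=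
  fun j hj => (pd_eq_iff hc (hfx j hj) (hfx j hj)).1 (hfix j hj)

/-- the generic levels: the image of the base point avoids the fixed points -/
theorem up_gen {c : GG} {cc : ℕ} (hc : IsCode cc c) (fx : List ℕ) (hfx : ∀ j ∈ fx, j < 24)
    (hfix : ∀ j ∈ fx, pd cc j = j) {b : ℕ} (hb : b < 24) (hbfx : b ∉ fx) :
    pd cc b < 24 ∧ pd cc b ∉ fx := by
  refine ⟨hc.1.2 b hb, ?_⟩
  rw [pd_of_isCode hc b hb]
  exact up_generic fx hfx (fixes_of_pd hc hfx hfix) hb hbfx

theorem lvl0_ok : LvlOK [] lvl0 where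
  chk := lvl0_chk
  up := by
    intro c cc hc hfix
    have h := up_gen hc [] (by decide) hfix (b := 23) (by norm_num) (by decide)
    revert h
    show pd cc 23 < 24 ∧ pd cc 23 ∉ ([] : List ℕ) → lvl0.pred (pd cc 23) = true
    generalize pd cc 23 = q
    intro h
    have : ∀ q < 24, q ∉ ([] : List ℕ) → lvl0.pred q = true := by decide +kernel
    exact this q h.1 h.2

theorem lvl1_ok : LvlOK [23] lvl1 where
  chk := lvl1_chk
  up := by
    intro c cc hc hfix
    have h := up_gen hc [23] (by decide) hfix (b := 0) (by norm_num) (by decide)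
    revert h
    show pd cc 0 < 24 ∧ pd cc 0 ∉ [23] → lvl1.pred (pd cc 0) = true
    generalize pd cc 0 = q
    intro h
    have : ∀ q < 24, q ∉ [23] → lvl1.pred q = true := by decide +kernel
    exact this q h.1 h.2

theorem lvl2_ok : LvlOK [23, 0] lvl2 where
  chk := lvl2_chk
  up := by
    intro c cc hc hfix
    have h := up_gen hc [23, 0] (by decide) hfix (b := 1) (by norm_num) (by decide)
    revert h
    show pd cc 1 < 24 ∧ pd cc 1 ∉ [23, 0] → lvl2.pred (pd cc 1) = true
    generalize pd cc 1 = q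
    intro h
    have : ∀ q < 24, q ∉ [23, 0] → lvl2.pred q = true := by decide +kernel
    exact this q h.1 h.2

theorem lvl3_ok : LvlOK [23, 0, 1] lvl3 where
  chk := lvl3_chk
  up := by
    intro c cc hc hfix
    have h := up_gen hc [23, 0, 1] (by decide) hfix (b := 2) (by norm_num) (by decide)
    revert h
    show pd cc 2 < 24 ∧ pd cc 2 ∉ [23, 0, 1] → lvl3.pred (pd cc 2) = true
    generalize pd cc 2 = q
    intro h
    have : ∀ q < 24, q ∉ [23, 0, 1] → lvl3.pred q = true := by decide +kernel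
    exact this q h.1 h.2

theorem lvl4_ok : LvlOK [23, 0, 1, 2] lvl4 where
  chk := lvl4_chk
  up := by
    intro c cc hc hfix
    have h := up_gen hc [23, 0, 1, 2] (by decide) hfix (b := 3) (by norm_num) (by decide)
    revert h
    show pd cc 3 < 24 ∧ pd cc 3 ∉ [23, 0, 1, 2] → lvl4.pred (pd cc 3) = true
    generalize pd cc 3 = q
    intro h
    have : ∀ q < 24, q ∉ [23, 0, 1, 2] → lvl4.pred q = true := by decide +kernel
    exact this q h.1 h.2

theorem lvl5_ok : LvlOK [23, 0, 1, 2, 3] lvl5 where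
  chk := lvl5_chk
  up := by
    intro c cc hc hfix
    have h1 : pd cc 4 < 24 := hc.1.2 4 (by norm_num)
    have h2 : O₀.testBit (pd cc 4) = false := by
      rw [pd_of_isCode hc 4 (by norm_num)]
      exact up5 c.2 (fixes_of_pd hc (by decide) hfix)
    revert h1 h2
    show pd cc 4 < 24 → O₀.testBit (pd cc 4) = false → lvl5.pred (pd cc 4) = true
    generalize pd cc 4 = q
    intro h1 h2
    have : ∀ q < 24, O₀.testBit q = false → lvl5.pred q = true := by decide +kernel
    exact this q h1 h2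

theorem lvl6_ok : LvlOK [23, 0, 1, 2, 3, 4] lvl6 where
  chk := lvl6_chk
  up := by
    intro c cc hc hfix
    have h2 : pd cc 5 ∈ [5, 14, 17] := by
      rw [pd_of_isCode hc 5 (by norm_num)]
      exact up6 c.2 (fixes_of_pd hc (by decide) hfix)
    revert h2
    show pd cc 5 ∈ [5, 14, 17] → lvl6.pred (pd cc 5) = true
    generalize pd cc 5 = q
    intro h2
    have : ∀ q ∈ [5, 14, 17], lvl6.pred q = true := by decide +kernel
    exact this q h2

theorem chain_ok : ChainOK [] chain := by
  refine ⟨lvl0_ok, lvl1_ok, lvl2_ok, lvl3_ok, lvl4_ok, lvl5_ok, lvl6_ok, ?_⟩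
  intro c cc hc hfix
  have h1 : (c : Equiv.Perm GolayPt) = 1 :=
    stab_trivial c.2 (fixes_of_pd hc (by decide) hfix)
  have h2 : c = 1 := Subtype.ext h1
  rw [h2] at hc
  exact hc.code_unique isCode_one

/-- the base -/
def baseL : List ℕ := [23, 0, 1, 2, 3, 4, 5]

/-- **the code of an element of `M24` is found by sifting the images of the base** -/
theorem sift_chain {c : GG} {cc : ℕ} (hc : IsCode cc c) : siftT chain (baseL.map (pd cc)) = cc :=
  sift_complete chain [] chain_ok (by simp) c cc hc (by simp)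

end Cfsg.Agent.Lib.Helper4.M24B
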