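import Cfsg.Agent.Lib.Helper1.M24CE4
import Cfsg.Agent.Lib.Helper4.M24B.C2A
import Cfsg.Agent.Lib.Helper4.M24B.C2B
import Cfsg.Agent.Lib.Helper4.M24B.ClassIface

/-!
# M24: the class equation (from `Helper1.M24CE` and the two counts for the involutions)
-/

set_option autoImplicit false

namespace Cfsg.Agent.Lib.Helper4.M24B

open Cfsg Cfsg.Agent.Lib.Helper1 Cfsg.Agent.Lib.Helper1.PermCode

theorem repT_length : repT.length = 26 := rfl

theorem repT_get (i : Fin 26) :
    repT[i.val]'(by rw [repT_length]; exact i.2) =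
      (M24CE.rep i, M24CE.repC i, M24CE.cent i) := by
  fin_cases i <;> rfl

/-- **the class equation of M24** -/
theorem classEq : ClassEq := by
  obtain ⟨h1, h2⟩ := M24CE.class_eq_M24 length_stepL_2A length_stepL_2B
  constructor
  · intro x
    obtain ⟨i, hi⟩ := h1 x
    refine ⟨repT[i.val]'(by rw [repT_length]; exact i.2), List.getElem_mem _, ?_⟩
    rw [repT_get]
    exact hi
  · intro p hp
    obtain ⟨k, hk, rfl⟩ := List.getElem_of_mem hp
    have hk' : k < 26 := by rw [← repT_length]; exact hk
    have := repT_get ⟨k, hk'⟩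
    simp only at this
    rw [this]
    exact h2 ⟨k, hk'⟩

end Cfsg.Agent.Lib.Helper4.M24B
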