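import Cfsg.Agent.Lib.Helper4.M24B.Chain

/-!
# M24: all elements `c` with `c g = h c`

An element `c` with `c g = h c` satisfies `c (g^k p) = h^k (c p)`, so it is determined by the images
of the points `p` of a list `P` whose `g`-cycles contain the base.  The search runs over all the
tuples of images and sifts.
-/

set_option autoImplicit false

namespace Cfsg.Agent.Lib.Helper4.M24B

open Cfsg Cfsg.Agent.Lib.Helper1 Cfsg.Agent.Lib.Helper1.PermCode

/-- powers of a code -/
def ppow (h : ℕ) : ℕ → ℕ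
  | 0 => pc1
  | k + 1 => pmu2 h (ppow h k)

theorem canon_ppow (h k : ℕ) : PCanon (ppow h k) := by
  cases k with
  | zero => exact canon_pc1
  | succ k => exact canon_pmu2 _ _

theorem pmu2_assoc {a b c : ℕ} : pmu2 (pmu2 a b) c = pmu2 a (pmu2 b c) := by
  apply PD_inj (canon_pmu2 _ _) (canon_pmu2 _ _)
  rw [PD_pmu2, PD_pmu2, PD_pmu2, PD_pmu2, mul_assoc]

theorem pmu2_pc1_left {a : ℕ} (ha : PCanon a) : pmu2 pc1 a = a := by
  apply PD_inj (canon_pmu2 _ _) ha
  rw [PD_pmu2, PD_pc1, one_mul]

theorem pmu2_pc1_right {a : ℕ} (ha : PCanon a) : pmu2 a pc1 = a := by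
  apply PD_inj (canon_pmu2 _ _) ha
  rw [PD_pmu2, PD_pc1, mul_one]

/-- `c g = h c` gives `c g^k = h^k c` -/
theorem comm_ppow {cc g h : ℕ} (hcc : PCanon cc) (hcomm : pmu2 cc g = pmu2 h cc) (k : ℕ) :
    pmu2 cc (ppow g k) = pmu2 (ppow h k) cc := by
  induction k with
  | zero => rw [ppow, ppow, pmu2_pc1_left hcc, pmu2_pc1_right hcc]
  | succ k ih =>
    rw [ppow, ppow, ← pmu2_assoc, hcomm, pmu2_assoc, ih, pmu2_assoc]

theorem pd_comm_ppow {cc g h : ℕ} (hcc : PCanon cc) (hcomm : pmu2 cc g = pmu2 h cc) (k p : ℕ)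
    (hp : p < 24) : pd (ppow h k) (pd cc p) = pd cc (pd (ppow g k) p) := by
  have h1 : pd (pmu2 cc (ppow g k)) p = pd (pmu2 (ppow h k) cc) p :=
    congrArg (fun x => pd x p) (comm_ppow hcc hcomm k)
  rw [pd_pmu2_canon hcc (canon_ppow g k) p hp, pd_pmu2_canon (canon_ppow h k) hcc p hp] at h1
  exact h1.symm

/-- the targets of the candidate with the images `t` of the points of `P` -/
def candT (spec : List (ℕ × ℕ × ℕ)) (t : List ℕ) : List ℕ :=
  spec.map fun km => pd km.2.1 (t.getD km.2.2 0)

/-- the test: `c g` and `h c` agree at the base points -/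
def testQ (g h : ℕ) (qs : List ℕ) : Bool :=
  baseL.all fun b => Nat.beq (evalQ chain qs (pd g b)) (pd h (evalQ chain qs b))

/-- the search: `r` more images to choose; the result lists the targets of the sifting -/
def searchQ (g h : ℕ) (spec : List (ℕ × ℕ × ℕ)) : ℕ → List ℕ → List (List ℕ)
  | 0, t =>
    match siftQ chain (candT spec t) with
    | none => []
    | some qs => bif testQ g h qs then [qs] else []
  | r + 1, t => (List.range 24).flatMap fun x => searchQ g h spec r (t ++ [x])

/-- the data of a search are coherent: the `j`-th term `(k, hk, m)` of `spec` says that `hk` is the code of `h^k` and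
that the `j`-th base point is the image of the point `P[m]` under `g^k` -/
structure SearchOK (g h : ℕ) (spec : List (ℕ × ℕ × ℕ)) (P : List ℕ) : Prop where
  /-- the powers -/
  hHP : ∀ km ∈ spec, km.2.1 = ppow h km.1
  /-- the base points -/
  hspec : (spec.map fun km => pd (ppow g km.1) (P.getD km.2.2 0)) = baseL
  /-- the indices -/
  hidx : ∀ km ∈ spec, km.2.2 < P.length
  /-- the points -/
  hP : ∀ p ∈ P, p < 24

theorem candT_eq {g h : ℕ} {spec : List (ℕ × ℕ × ℕ)} {P : List ℕ}
    (hS : SearchOK g h spec P) {cc : ℕ} (hcc : PCanon cc)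
    (hcomm : pmu2 cc g = pmu2 h cc) : candT spec (P.map (pd cc)) = baseL.map (pd cc) := by
  unfold candT
  rw [← hS.hspec, List.map_map]
  apply List.map_congr_left
  intro km hkm
  have hlt : km.2.2 < P.length := hS.hidx km hkm
  have hp : P.getD km.2.2 0 < 24 := by
    rw [List.getD_eq_getElem _ _ hlt]
    exact hS.hP _ (List.getElem_mem hlt)
  show pd km.2.1 ((P.map (pd cc)).getD km.2.2 0) = pd cc (pd (ppow g km.1) (P.getD km.2.2 0))
  rw [hS.hHP km hkm, ← pd_comm_ppow hcc hcomm km.1 _ hp]
  congr 1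
  rw [List.getD_eq_getElem _ _ (by rw [List.length_map]; exact hlt), List.getElem_map,
    List.getD_eq_getElem _ _ hlt]

theorem baseL_lt : ∀ b ∈ baseL, b < 24 := by decide

/-- the search finds the targets of `cc` once the prefix is right -/
theorem mem_searchQ_aux {g h : ℕ} {spec : List (ℕ × ℕ × ℕ)} {c : GG} {cc : ℕ}
    (hc : IsCode cc c) (hg : PCanon g) (hh : PCanon h) (hcomm : pmu2 cc g = pmu2 h cc) :
    ∀ (Q t : List ℕ), (∀ p ∈ Q, p < 24) →
      candT spec (t ++ Q.map (pd cc)) = baseL.map (pd cc) →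
      ∃ qs ∈ searchQ g h spec Q.length t, prodQ chain qs = cc := by
  intro Q
  induction Q with
  | nil =>
    intro t _ hcand
    rw [List.map_nil, List.append_nil] at hcand
    obtain ⟨qs, hqs, hprod, heval⟩ :=
      siftQ_complete chain [] chain_ok (by simp) c cc hc (by simp)
    have hqs' : siftQ chain (baseL.map (pd cc)) = some qs := hqs
    refine ⟨qs, ?_, hprod⟩
    rw [List.length_nil, searchQ, hcand, hqs']
    have htest : testQ g h qs = true := by
      unfold testQ
      rw [List.all_eq_true]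
      intro b hb
      have hb' := baseL_lt b hb
      rw [Nat.beq_eq, heval _ (hg.2 b hb'), heval b hb', ← pd_pmu2_canon hc.1 hg b hb',
        ← pd_pmu2_canon hh hc.1 b hb', hcomm]
    show qs ∈ (bif testQ g h qs then [qs] else [])
    rw [htest, cond_true]
    exact List.mem_singleton_self qs
  | cons p Q ih =>
    intro t hQ hcand
    have := ih (t ++ [pd cc p]) (fun q hq => hQ q (List.mem_cons_of_mem _ hq)) (by
      rw [List.append_assoc, List.singleton_append, ← List.map_cons]
      exact hcand)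
    obtain ⟨qs, hqs, hprod⟩ := this
    refine ⟨qs, ?_, hprod⟩
    rw [List.length_cons, searchQ, List.mem_flatMap]
    exact ⟨pd cc p, List.mem_range.2 (hc.1.2 p (hQ p List.mem_cons_self)), hqs⟩

/-- **completeness of the search** -/
theorem mem_searchQ {g h : ℕ} {spec : List (ℕ × ℕ × ℕ)} {P : List ℕ}
    (hS : SearchOK g h spec P) {c : GG} {cc : ℕ} (hc : IsCode cc c) (hg : PCanon g)
    (hh : PCanon h) (hcomm : pmu2 cc g = pmu2 h cc) :
    ∃ qs ∈ searchQ g h spec P.length [], prodQ chain qs = cc :=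
  mem_searchQ_aux hc hg hh hcomm P [] hS.hP (by
    rw [List.nil_append]; exact candT_eq hS hc.1 hcomm)

/-- completeness, the first image chosen apart -/
theorem mem_searchQ_cons {g h : ℕ} {spec : List (ℕ × ℕ × ℕ)} {p : ℕ} {P : List ℕ}
    (hS : SearchOK g h spec (p :: P)) {c : GG} {cc : ℕ} (hc : IsCode cc c) (hg : PCanon g)
    (hh : PCanon h) (hcomm : pmu2 cc g = pmu2 h cc) :
    ∃ x < 24, ∃ qs ∈ searchQ g h spec P.length [x], prodQ chain qs = cc := by
  refine ⟨pd cc p, hc.1.2 p (hS.hP p List.mem_cons_self), ?_⟩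
  apply mem_searchQ_aux hc hg hh hcomm P [pd cc p]
    (fun q hq => hS.hP q (List.mem_cons_of_mem _ hq))
  rw [List.singleton_append, ← List.map_cons]
  exact candT_eq hS hc.1 hcomm

end Cfsg.Agent.Lib.Helper4.M24B
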