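import Cfsg.Agent.Lib.Helper4.M24B.Conj

/-!
# M24: the search, written with the primitive operations on natural numbers
-/

set_option autoImplicit false

namespace Cfsg.Agent.Lib.Helper4.M24B

open Cfsg Cfsg.Agent.Lib.Helper1 Cfsg.Agent.Lib.Helper1.PermCode

/-- the digit of index `i` of the code `c`, with shifts -/
def pdF (c i : ℕ) : ℕ := Nat.land (Nat.shiftRight c (Nat.mul 5 i)) 31

theorem pdF_eq : pdF = pd := by
  funext c i
  exact prim_dig c i

/-- `siftQ` with shifts -/
def siftQF : List Lvl → List ℕ → Option (List ℕ)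
  | [], _ => some []
  | L :: Ls, τ =>
    bif Nat.beq (L.u (τ.headD 0)) 0 then none else
      Option.map (fun qs => τ.headD 0 :: qs)
        (siftQF Ls (τ.tail.map fun t => pdF (L.ui (τ.headD 0)) t))

theorem siftQF_eq : ∀ (Ls : List Lvl) (τ : List ℕ), siftQF Ls τ = siftQ Ls τ := by
  intro Ls
  induction Ls with
  | nil => intro τ; rfl
  | cons L Ls ih =>
    intro τ
    rw [siftQF, siftQ, ih, pdF_eq]

/-- `evalQ` with shifts -/
def evalQF : List Lvl → List ℕ → ℕ → ℕ
  | L :: Ls, q :: qs, x => pdF (L.u q) (evalQF Ls qs x)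
  | _, _, x => x

theorem evalQF_eq : ∀ (Ls : List Lvl) (qs : List ℕ) (x : ℕ), evalQF Ls qs x = evalQ Ls qs x := by
  intro Ls
  induction Ls with
  | nil => intro qs x; rfl
  | cons L Ls ih =>
    intro qs x
    cases qs with
    | nil => rfl
    | cons q qs =>
      show pdF (L.u q) (evalQF Ls qs x) = pd (L.u q) (evalQ Ls qs x)
      rw [ih, pdF_eq]

/-- `candT` with shifts -/
def candTF (spec : List (ℕ × ℕ × ℕ)) (t : List ℕ) : List ℕ :=
  spec.map fun km => pdF km.2.1 (t.getD km.2.2 0)

theorem candTF_eq (spec : List (ℕ × ℕ × ℕ)) (t : List ℕ) : candTF spec t = candT spec t := by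
  unfold candTF candT
  rw [pdF_eq]

/-- `testQ` with shifts -/
def testQF (g h : ℕ) (qs : List ℕ) : Bool :=
  baseL.all fun b => Nat.beq (evalQF chain qs (pdF g b)) (pdF h (evalQF chain qs b))

theorem testQF_eq (g h : ℕ) (qs : List ℕ) : testQF g h qs = testQ g h qs := by
  unfold testQF testQ
  congr 1
  funext b
  rw [evalQF_eq, evalQF_eq, pdF_eq]

/-- `searchQ` with shifts -/
def searchQF (g h : ℕ) (spec : List (ℕ × ℕ × ℕ)) : ℕ → List ℕ → List (List ℕ)
  | 0, t =>
    match siftQF chain (candTF spec t) with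
    | none => []
    | some qs => bif testQF g h qs then [qs] else []
  | r + 1, t => (List.range 24).flatMap fun x => searchQF g h spec r (t ++ [x])

theorem searchQF_eq (g h : ℕ) (spec : List (ℕ × ℕ × ℕ)) :
    ∀ (r : ℕ) (t : List ℕ), searchQF g h spec r t = searchQ g h spec r t := by
  intro r
  induction r with
  | zero =>
    intro t
    rw [searchQF, searchQ, siftQF_eq, candTF_eq]
    cases siftQ chain (candT spec t) with
    | none => rfl
    | some qs => simp only [testQF_eq]
  | succ r ih =>
    intro t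
    rw [searchQF, searchQ]
    congr 1
    funext x
    exact ih _

end Cfsg.Agent.Lib.Helper4.M24B
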