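import Mathlib

/-!
# Normal `p`-subgroups of the centralizer of a `p`-subgroup of a permutation group

For a group `G` acting faithfully on a set (through `φ : G →* Function.End α`) and a subgroup `D`:
* `orbCent φ D`: the elements of `C_G(D)` that move every point inside its `D`-orbit; it is a
  `p`-group when `D` is, and it is normalized by `C_G(D)`;
* `fixCent φ D z`: the elements of `C_G(D)` fixing every fixed point of `z`; it is normalized by
  `C_G(D)` when `z ∈ D`.
Also: the property `QR p D` ("`C_G(D)` has a normal `p`-subgroup not inside `D`") and its transport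
along conjugation and to the Sylow subgroups of the centralizer of a conjugate element.
-/

set_option autoImplicit false

namespace Cfsg.Agent.Lib.Helper4.M24B

section Act

variable {G : Type*} [Group G] {α : Type*} (φ : G →* Function.End α)

theorem phi_mul_apply (a b : G) (i : α) : φ (a * b) i = φ a (φ b i) := by
  rw [map_mul]; rfl

theorem phi_one_apply (i : α) : φ (1 : G) i = i := by
  rw [map_one]; rfl

theorem phi_inv_apply_of_eq {c : G} {i j : α} (h : φ c j = i) : φ c⁻¹ i = j := by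
  rw [← h, ← phi_mul_apply, inv_mul_cancel, phi_one_apply]

/-- the elements of `C_G(D)` that move every point inside its `D`-orbit -/
def orbCent (D : Subgroup G) : Subgroup G where
  carrier := {c | c ∈ Subgroup.centralizer (D : Set G) ∧ ∀ i, ∃ d ∈ D, φ c i = φ d i}
  one_mem' := ⟨one_mem _, fun _ => ⟨1, one_mem D, rfl⟩⟩
  mul_mem' := by
    rintro a b ⟨ha, ha'⟩ ⟨hb, hb'⟩
    refine ⟨mul_mem ha hb, fun i => ?_⟩
    obtain ⟨d₂, hd₂, h₂⟩ := hb' i
    obtain ⟨d₁, hd₁, h₁⟩ := ha' i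
    refine ⟨d₂ * d₁, mul_mem hd₂ hd₁, ?_⟩
    have hc : d₂ * a = a * d₂ := Subgroup.mem_centralizer_iff.1 ha d₂ hd₂
    rw [phi_mul_apply, h₂, ← phi_mul_apply, ← hc, phi_mul_apply, h₁, ← phi_mul_apply]
  inv_mem' := by
    rintro a ⟨ha, ha'⟩
    refine ⟨inv_mem ha, fun i => ?_⟩
    obtain ⟨d, hd, h⟩ := ha' (φ a⁻¹ i)
    refine ⟨d⁻¹, inv_mem hd, ?_⟩
    have h1 : φ a (φ a⁻¹ i) = i := by rw [← phi_mul_apply, mul_inv_cancel, phi_one_apply]
    rw [h1] at h
    exact (phi_inv_apply_of_eq φ h.symm).symm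

theorem mem_orbCent {D : Subgroup G} {c : G} :
    c ∈ orbCent φ D ↔ c ∈ Subgroup.centralizer (D : Set G) ∧ ∀ i, ∃ d ∈ D, φ c i = φ d i :=
  Iff.rfl

theorem orbCent_le (D : Subgroup G) : orbCent φ D ≤ Subgroup.centralizer (D : Set G) :=
  fun _ h => h.1

theorem orbCent_normal (D : Subgroup G) (c : G) (hc : c ∈ Subgroup.centralizer (D : Set G))
    (r : G) (hr : r ∈ orbCent φ D) : c * r * c⁻¹ ∈ orbCent φ D := by
  refine ⟨mul_mem (mul_mem hc hr.1) (inv_mem hc), fun i => ?_⟩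
  obtain ⟨d, hd, h⟩ := hr.2 (φ c⁻¹ i)
  refine ⟨d, hd, ?_⟩
  have hcd : d * c = c * d := Subgroup.mem_centralizer_iff.1 hc d hd
  have h2 : c * d * c⁻¹ = d := by rw [← hcd, mul_assoc, mul_inv_cancel, mul_one]
  rw [phi_mul_apply, phi_mul_apply, h, ← phi_mul_apply, ← phi_mul_apply, h2]

theorem orbCent_pow {D : Subgroup G} {c : G} (hc : c ∈ orbCent φ D) {i : α} {d : G} (hd : d ∈ D)
    (h : φ c i = φ d i) (n : ℕ) : φ (c ^ n) i = φ (d ^ n) i := by
  induction n with
  | zero => rw [pow_zero, pow_zero]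
  | succ n ih =>
    have hcn : c ^ n ∈ Subgroup.centralizer (D : Set G) := pow_mem hc.1 n
    have hcd : d * c ^ n = c ^ n * d := Subgroup.mem_centralizer_iff.1 hcn d hd
    rw [pow_succ, phi_mul_apply, h, ← phi_mul_apply, ← hcd, phi_mul_apply, ih, ← phi_mul_apply,
      ← pow_succ']

theorem orbCent_isPGroup (hφ : Function.Injective φ) {p : ℕ} [Fact p.Prime] (D : Subgroup G)
    [Finite D] (hD : IsPGroup p D) : IsPGroup p (orbCent φ D) := by
  obtain ⟨k, hk⟩ := IsPGroup.iff_card.1 hD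
  intro c
  refine ⟨k, ?_⟩
  apply Subtype.ext
  rw [Subgroup.coe_pow, Subgroup.coe_one]
  apply hφ
  rw [map_one]
  funext i
  obtain ⟨d, hd, h⟩ := c.2.2 i
  rw [orbCent_pow φ c.2 hd h]
  have hd1 : d ^ p ^ k = 1 := by
    have := pow_card_eq_one' (G := D) (x := ⟨d, hd⟩)
    rw [hk] at this
    exact congrArg Subtype.val this
  rw [hd1, map_one]

/-- the elements of `C_G(D)` fixing every fixed point of `z` -/
def fixCent (D : Subgroup G) (z : G) : Subgroup G where
  carrier := {c | c ∈ Subgroup.centralizer (D : Set G) ∧ ∀ i, φ z i = i → φ c i = i}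
  one_mem' := ⟨one_mem _, fun i _ => phi_one_apply φ i⟩
  mul_mem' := by
    rintro a b ⟨ha, ha'⟩ ⟨hb, hb'⟩
    refine ⟨mul_mem ha hb, fun i hi => ?_⟩
    rw [phi_mul_apply, hb' i hi, ha' i hi]
  inv_mem' := by
    rintro a ⟨ha, ha'⟩
    exact ⟨inv_mem ha, fun i hi => phi_inv_apply_of_eq φ (ha' i hi)⟩

theorem mem_fixCent {D : Subgroup G} {z c : G} :
    c ∈ fixCent φ D z ↔ c ∈ Subgroup.centralizer (D : Set G) ∧ ∀ i, φ z i = i → φ c i = i :=
  Iff.rfl

theorem fixCent_le (D : Subgroup G) (z : G) : fixCent φ D z ≤ Subgroup.centralizer (D : Set G) :=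
  fun _ h => h.1

theorem fixCent_normal (D : Subgroup G) {z : G} (hz : z ∈ D) (c : G)
    (hc : c ∈ Subgroup.centralizer (D : Set G)) (r : G) (hr : r ∈ fixCent φ D z) :
    c * r * c⁻¹ ∈ fixCent φ D z := by
  refine ⟨mul_mem (mul_mem hc hr.1) (inv_mem hc), fun i hi => ?_⟩
  have hcz : z * c = c * z := Subgroup.mem_centralizer_iff.1 hc z hz
  have hj : φ z (φ c⁻¹ i) = φ c⁻¹ i := by
    have h1 : z * c⁻¹ = c⁻¹ * z := by
      rw [eq_inv_mul_iff_mul_eq, ← mul_assoc, ← hcz, mul_assoc, mul_inv_cancel, mul_one]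
    rw [← phi_mul_apply, h1, phi_mul_apply, hi]
  rw [phi_mul_apply, phi_mul_apply, hr.2 _ hj, ← phi_mul_apply, mul_inv_cancel, phi_one_apply]

end Act

section QR

variable {G : Type*} [Group G]

/-- `C_G(D)` has a normal `p`-subgroup not inside `D` -/
def QR (p : ℕ) (D : Subgroup G) : Prop :=
  ∃ R : Subgroup G, IsPGroup p R ∧ R ≤ Subgroup.centralizer (D : Set G) ∧
    (∀ c ∈ Subgroup.centralizer (D : Set G), ∀ r ∈ R, c * r * c⁻¹ ∈ R) ∧ ¬ R ≤ D

theorem mem_map_conj {K : Subgroup G} {w x : G} :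
    x ∈ K.map (MulAut.conj w).toMonoidHom ↔ w⁻¹ * x * w ∈ K := by
  constructor
  · rintro ⟨k, hk, rfl⟩
    have : w⁻¹ * (MulAut.conj w).toMonoidHom k * w = k := by
      show w⁻¹ * (w * k * w⁻¹) * w = k
      group
    rw [this]; exact hk
  · intro h
    refine ⟨w⁻¹ * x * w, h, ?_⟩
    show w * (w⁻¹ * x * w) * w⁻¹ = x
    group

theorem QR_conj {p : ℕ} {D : Subgroup G} (w : G) (h : QR p D) :
    QR p (D.map (MulAut.conj w).toMonoidHom) := by
  obtain ⟨R, hR, hRC, hRn, hRD⟩ := h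
  have hcent : ∀ c, c ∈ Subgroup.centralizer ((D.map (MulAut.conj w).toMonoidHom : Subgroup G) :
      Set G) ↔ w⁻¹ * c * w ∈ Subgroup.centralizer (D : Set G) := by
    intro c
    rw [Subgroup.mem_centralizer_iff, Subgroup.mem_centralizer_iff]
    constructor
    · intro h d hd
      have h1 := h (w * d * w⁻¹) (by
        rw [SetLike.mem_coe, mem_map_conj]
        have : w⁻¹ * (w * d * w⁻¹) * w = d := by group
        rw [this]; exact hd)
      calc d * (w⁻¹ * c * w) = w⁻¹ * ((w * d * w⁻¹) * c) * w := by group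
        _ = w⁻¹ * (c * (w * d * w⁻¹)) * w := by rw [h1]
        _ = w⁻¹ * c * w * d := by group
    · intro h d hd
      rw [SetLike.mem_coe, mem_map_conj] at hd
      have h1 := h _ hd
      calc d * c = w * ((w⁻¹ * d * w) * (w⁻¹ * c * w)) * w⁻¹ := by group
        _ = w * ((w⁻¹ * c * w) * (w⁻¹ * d * w)) * w⁻¹ := by rw [h1]
        _ = c * d := by group
  refine ⟨R.map (MulAut.conj w).toMonoidHom, hR.map _, ?_, ?_, ?_⟩
  · intro x hx
    rw [hcent]
    exact hRC (mem_map_conj.1 hx)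
  · intro c hc r hr
    rw [mem_map_conj]
    have h1 := hRn _ ((hcent c).1 hc) _ (mem_map_conj.1 hr)
    have : w⁻¹ * (c * r * c⁻¹) * w = w⁻¹ * c * w * (w⁻¹ * r * w) * (w⁻¹ * c * w)⁻¹ := by group
    rw [this]; exact h1
  · intro hle
    apply hRD
    intro r hr
    have h1 : w * r * w⁻¹ ∈ R.map (MulAut.conj w).toMonoidHom := ⟨r, hr, rfl⟩
    have h2 := mem_map_conj.1 (hle h1)
    have : w⁻¹ * (w * r * w⁻¹) * w = r := by group
    rwa [this] at h2

end QR

end Cfsg.Agent.Lib.Helper4.M24B
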