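import Cfsg.Agent.Lib.Helper4.M24B.B1
import Cfsg.Agent.Lib.Helper4.M24B.B2
import Cfsg.Agent.Lib.Helper4.M24B.B3
import Cfsg.Agent.Lib.Helper8.OB1

/-!
# M24 has a single 2-block, from the class equation
-/

set_option autoImplicit false

namespace Cfsg.Agent.Lib.Helper4.M24B

open Cfsg Cfsg.Agent.Lib.Helper1 Cfsg.Agent.Lib.Helper1.PermCode
open Cfsg.Agent.Lib.Helper8

theorem card_centralizer_of_isConj {G : Type*} [Group G] [Finite G] {a b : G} (h : IsConj a b) :
    Nat.card (Subgroup.centralizer ({a} : Set G)) = Nat.card (Subgroup.centralizer ({b} : Set G)) := by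
  have h1 := card_isConj_mul_card_centralizer a
  have h2 := card_isConj_mul_card_centralizer b
  have h3 : Nat.card {v : G // IsConj a v} = Nat.card {v : G // IsConj b v} := by
    apply Nat.card_congr
    exact Equiv.subtypeEquivRight (fun v => ⟨fun hv => h.symm.trans hv, fun hv => h.trans hv⟩)
  rw [h3, ← h2] at h1
  have hpos : 0 < Nat.card {v : G // IsConj b v} := by
    haveI : Nonempty {v : G // IsConj b v} := ⟨⟨b, IsConj.refl b⟩⟩
    exact Nat.card_pos
  exact Nat.eq_of_mul_eq_mul_left hpos h1

theorem two_part_1080 : (1080 : ℕ).factorization 2 = 3 := by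
  have h1 : 3 ≤ (1080 : ℕ).factorization 2 :=
    (Nat.prime_two.pow_dvd_iff_le_factorization (by norm_num)).mp (by norm_num)
  have h2 : ¬ 4 ≤ (1080 : ℕ).factorization 2 := by
    intro h
    have := (Nat.prime_two.pow_dvd_iff_le_factorization (by norm_num)).mpr h
    norm_num at this
  omega

theorem two_part_504 : (504 : ℕ).factorization 2 = 3 := by
  have h1 : 3 ≤ (504 : ℕ).factorization 2 :=
    (Nat.prime_two.pow_dvd_iff_le_factorization (by norm_num)).mp (by norm_num)
  have h2 : ¬ 4 ≤ (504 : ℕ).factorization 2 := by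
    intro h
    have := (Nat.prime_two.pow_dvd_iff_le_factorization (by norm_num)).mpr h
    norm_num at this
  omega

theorem two_part_60 : (60 : ℕ).factorization 2 = 2 := by
  have h1 : 2 ≤ (60 : ℕ).factorization 2 :=
    (Nat.prime_two.pow_dvd_iff_le_factorization (by norm_num)).mp (by norm_num)
  have h2 : ¬ 3 ≤ (60 : ℕ).factorization 2 := by
    intro h
    have := (Nat.prime_two.pow_dvd_iff_le_factorization (by norm_num)).mpr h
    norm_num at this
  omega

theorem two_part_42 : (42 : ℕ).factorization 2 = 1 := by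
  have h1 : 1 ≤ (42 : ℕ).factorization 2 :=
    (Nat.prime_two.pow_dvd_iff_le_factorization (by norm_num)).mp (by norm_num)
  have h2 : ¬ 2 ≤ (42 : ℕ).factorization 2 := by
    intro h
    have := (Nat.prime_two.pow_dvd_iff_le_factorization (by norm_num)).mpr h
    norm_num at this
  omega

/-- the cases for a representative -/
theorem rep_cases : ∀ p ∈ repT, 2 ∣ orderOf p.1 ∨ p.2.2 = 244823040 ∨ p.2.2 % 2 = 1 ∨
    ∃ D₁ : Subgroup GG, D₁ ≤ Subgroup.centralizer ({p.1} : Set GG) ∧
      Nat.card D₁ = 2 ^ (p.2.2).factorization 2 ∧ QR 2 D₁ := by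
  intro p hp
  simp only [repT, List.mem_cons, List.not_mem_nil, or_false] at hp
  rcases hp with rfl | rfl | rfl | rfl | rfl | rfl | rfl | rfl | rfl | rfl | rfl | rfl | rfl |
    rfl | rfl | rfl | rfl | rfl | rfl | rfl | rfl | rfl | rfl | rfl | rfl | rfl
  · right; left; rfl
  · left; exact even_of_pow isCode_g2A 1 (by decide +kernel) (by decide +kernel)
  · left; exact even_of_pow isCode_g2B 1 (by decide +kernel) (by decide +kernel)
  · right; right; right
    exact ⟨D3A, D3A_le, by rw [card_D3A, two_part_1080]; norm_num, QR_D3A⟩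
  · right; right; right
    exact ⟨D3B, D3B_le, by rw [card_D3B, two_part_504]; norm_num, QR_D3B⟩
  · left; exact even_of_pow isCode_g4A 2 (by decide +kernel) (by decide +kernel)
  · left; exact even_of_pow isCode_g4B 2 (by decide +kernel) (by decide +kernel)
  · left; exact even_of_pow isCode_g4C 2 (by decide +kernel) (by decide +kernel)
  · right; right; right
    exact ⟨D5A, D5A_le, by rw [card_D5A, two_part_60]; norm_num, QR_D5A⟩
  · left; exact even_of_pow isCode_g6A 3 (by decide +kernel) (by decide +kernel)
  · left; exact even_of_pow isCode_g6B 3 (by decide +kernel) (by decide +kernel)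
  · right; right; right
    exact ⟨D7A, D7A_le, by rw [card_D7A, two_part_42]; norm_num, QR_D7A⟩
  · right; right; right
    exact ⟨D7A, D7A_le', by rw [card_D7A, two_part_42]; norm_num, QR_D7A⟩
  · left; exact even_of_pow isCode_g8A 4 (by decide +kernel) (by decide +kernel)
  · left; exact even_of_pow isCode_g10A 5 (by decide +kernel) (by decide +kernel)
  · right; right; left; rfl
  · left; exact even_of_pow isCode_g12A 6 (by decide +kernel) (by decide +kernel)
  · left; exact even_of_pow isCode_g12B 6 (by decide +kernel) (by decide +kernel)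
  · left; exact even_of_pow isCode_g14A 7 (by decide +kernel) (by decide +kernel)
  · left; exact even_of_pow isCode_g14B 7 (by decide +kernel) (by decide +kernel)
  · right; right; left; rfl
  · right; right; left; rfl
  · right; right; left; rfl
  · right; right; left; rfl
  · right; right; left; rfl
  · right; right; left; rfl

/-- the Sylow 2-subgroups of the centralizers of the elements of odd order are not defect groups,
unless they are trivial or Sylow subgroups of the group -/
theorem hb_M24 (hce : ClassEq) (y : GG) (hy : ¬ 2 ∣ orderOf y)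
    (P : Sylow 2 (Subgroup.centralizer ({y} : Set GG))) (D : Subgroup GG)
    (hD : D = (P : Subgroup (Subgroup.centralizer ({y} : Set GG))).map
      (Subgroup.centralizer ({y} : Set GG)).subtype)
    (hne : D ≠ ⊥) (hcard : Nat.card D ≠ 2 ^ (Nat.card GG).factorization 2) :
    ∃ R : Subgroup GG, IsPGroup 2 R ∧ R ≤ Subgroup.centralizer (D : Set GG) ∧
      (∀ c ∈ Subgroup.centralizer (D : Set GG), ∀ r ∈ R, c * r * c⁻¹ ∈ R) ∧ ¬ R ≤ D := by
  haveI : Fact (Nat.Prime 2) := ⟨Nat.prime_two⟩
  obtain ⟨p, hp, hconj⟩ := hce.conj y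
  have hCy : Nat.card (Subgroup.centralizer ({y} : Set GG)) = p.2.2 := by
    rw [card_centralizer_of_isConj hconj, hce.card p hp]
  have hDle : D ≤ Subgroup.centralizer ({y} : Set GG) := by
    rw [hD]; exact Subgroup.map_subtype_le _
  have hDcard : Nat.card D = 2 ^ (p.2.2).factorization 2 := by
    rw [hD, Subgroup.card_map_of_injective (Subgroup.subtype_injective _),
      P.card_eq_multiplicity, hCy]
  rcases rep_cases p hp with h | h | h | ⟨D₁, hD₁, hc₁, hQ⟩
  · exfalso
    obtain ⟨t, ht⟩ := isConj_iff.1 hconj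
    rw [← ht, orderOf_conj'] at h
    exact hy h
  · exfalso
    apply hcard
    rw [hDcard, h, Cfsg.Agent.Lib.Helper1.M24.card_M24]
  · exfalso
    apply hne
    have h0 : (p.2.2).factorization 2 = 0 := by
      apply Nat.factorization_eq_zero_of_not_dvd
      omega
    rw [h0, pow_zero] at hDcard
    exact Subgroup.eq_bot_of_card_eq D hDcard
  · have hc₁' : Nat.card D₁ =
        2 ^ (Nat.card (Subgroup.centralizer ({p.1} : Set GG))).factorization 2 := by
      rw [hce.card p hp]; exact hc₁
    exact QR_of_sylow_conj hD₁ hc₁' hQ hconj hDle (by rw [hDcard, hc₁])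

/-- **M24 has a single 2-block** (given the class equation) -/
theorem sameBlock_M24 (hce : ClassEq) (M : Ideal AlgInt) (hM : IsPModular 2 M)
    (χ ψ : IrrCharacter GG) : SameBlock M (χ : GG → ℂ) (ψ : GG → ℂ) := by
  haveI : Fact (Nat.Prime 2) := ⟨Nat.prime_two⟩
  have hsyl := OB.card_defectGroup_of_centralizer hM (no_defect_zero_M24 hce hM) (hb_M24 hce)
  exact OB.sameBlock_of_defect_sylow hM hsyl sylS
    (OB.sameBlock_normalizer_of_isPGroup hM sylS isPGroup_normalizer_sylS) χ ψ

end Cfsg.Agent.Lib.Helper4.M24B
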