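import Cfsg.Agent.Lib.Helper4.M22B.Theory

/-!
# No character of 2-defect zero, from the parity of a product of two class sums

If `A` is a union of classes of elements of even order and `B` a union of classes, and the number of
factorizations `g = x * y` with `A x`, `B y` is odd for `g = 1` and even for the other elements of
odd order, then no irreducible character has degree divisible by the full power of `2`.
-/

set_option autoImplicit false

namespace Cfsg.Agent.Lib.Helper4.M24B

open Cfsg
open Cfsg.Agent.Lib.Helper1 Cfsg.Agent.Lib.Helper4 Cfsg.Agent.Lib.Helper8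
open Cfsg.Agent.Lib.Helper4.M22B (omega_ne_zero_of_parity)

universe u

variable {G : Type u} [Group G] [Fintype G] {M : Ideal AlgInt}

/-- the indicator of a property -/
noncomputable def indP (A : G → Prop) : G → ℂ := by
  classical exact fun x => if A x then 1 else 0

/-- the number of factorizations `g = x * y` with `A x` and `B y` -/
noncomputable def mcnt (A B : G → Prop) (g : G) : ℕ := by
  classical exact (Finset.univ.filter (fun x : G => A x ∧ B (x⁻¹ * g))).card

theorem isClassFunction_indP {A : G → Prop} (hA : ∀ x h : G, A (h * x * h⁻¹) ↔ A x) :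
    IsClassFunction G (indP A) := by
  classical
  intro g h
  unfold indP
  simp only [hA]

theorem conv_indP (A B : G → Prop) (g : G) : conv (indP A) (indP B) g = (mcnt A B g : ℂ) := by
  classical
  rw [conv_apply]
  unfold mcnt indP
  rw [Finset.card_filter, Nat.cast_sum]
  refine Finset.sum_congr rfl fun y _ => ?_
  by_cases h1 : A y
  · by_cases h2 : B (y⁻¹ * g)
    · simp [h1, h2]
    · simp [h1, h2]
  · simp [h1]

theorem mcnt_conj {A B : G → Prop} (hA : ∀ x h : G, A (h * x * h⁻¹) ↔ A x)
    (hB : ∀ x h : G, B (h * x * h⁻¹) ↔ B x) (g t : G) :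
    mcnt A B (t * g * t⁻¹) = mcnt A B g := by
  have h := isClassFunction_conv (isClassFunction_indP hA) (isClassFunction_indP hB) g t
  rw [conv_indP, conv_indP] at h
  exact_mod_cast h

theorem mcnt_of_isConj {A B : G → Prop} (hA : ∀ x h : G, A (h * x * h⁻¹) ↔ A x)
    (hB : ∀ x h : G, B (h * x * h⁻¹) ↔ B x) {g g' : G} (h : IsConj g g') :
    mcnt A B g' = mcnt A B g := by
  obtain ⟨t, ht⟩ := isConj_iff.1 h
  rw [← ht, mcnt_conj hA hB]

theorem orderOf_conj' (x h : G) : orderOf (h * x * h⁻¹) = orderOf x := by
  have := orderOf_injective (MulAut.conj h).toMonoidHom (MulAut.conj h).injective x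
  exact this

/-- **no character of 2-defect zero** -/
theorem no_defect_zero_of_parity [DecidableEq G] (hM : IsPModular 2 M) (A B : G → Prop)
    (hA : ∀ x h : G, A (h * x * h⁻¹) ↔ A x) (hB : ∀ x h : G, B (h * x * h⁻¹) ↔ B x)
    (hsing : ∀ x : G, A x → 2 ∣ orderOf x)
    (hpar : ∀ g : G, ¬ 2 ∣ orderOf g →
      (2 : ℤ) ∣ (mcnt A B g : ℤ) - (if g = 1 then 1 else 0))
    (θ : IrrCharacter G) : ¬ 2 ^ (Nat.card G).factorization 2 ∣ charDegree (θ : G → ℂ) := by
  classical
  haveI : Fact (Nat.Prime 2) := ⟨Nat.prime_two⟩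
  intro hdz
  have hvan : ∀ g : G, 2 ∣ orderOf g → (θ : G → ℂ) g = 0 := fun g hg =>
    irr_eq_zero_of_pow_dvd_degree 2 θ hdz hg
  set F' : G → ℤ := fun g => if 2 ∣ orderOf g then 0 else (mcnt A B g : ℤ) with hF'
  have hF'c : ∀ x h : G, F' (h * x * h⁻¹) = F' x := by
    intro x h
    simp only [hF', orderOf_conj', mcnt_conj hA hB]
  have hpar' : ∀ g : G, (2 : ℤ) ∣ F' g - (if g = 1 then 1 else 0) := by
    intro g
    by_cases hg : 2 ∣ orderOf g
    · have hg1 : g ≠ 1 := by
        rintro rfl
        rw [orderOf_one] at hg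
        omega
      simp only [hF', if_pos hg, if_neg hg1, sub_self, dvd_zero]
    · simp only [hF', if_neg hg]
      exact hpar g hg
  have hne := omega_ne_zero_of_parity hM θ F' hF'c hpar'
  apply hne
  have h1 : omega (θ : G → ℂ) (fun g => (F' g : ℂ)) =
      omega (θ : G → ℂ) (conv (indP A) (indP B)) := by
    unfold omega
    congr 1
    refine Finset.sum_congr rfl fun g _ => ?_
    by_cases hg : 2 ∣ orderOf g
    · rw [hvan g hg, mul_zero, mul_zero]
    · rw [conv_indP]
      simp only [hF', if_neg hg]
      push_cast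
      rfl
  rw [h1, omega_conv θ.2 (isClassFunction_indP hB)]
  have h2 : omega (θ : G → ℂ) (indP A) = 0 := by
    unfold omega
    rw [Finset.sum_eq_zero, zero_div]
    intro g _
    unfold indP
    by_cases hg : A g
    · rw [hvan g (hsing g hg), mul_zero]
    · rw [if_neg hg, zero_mul]
  rw [h2, zero_mul]

end Cfsg.Agent.Lib.Helper4.M24B
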