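import Cfsg.Agent.Lib.Helper4.M24B.Search

/-!
# M24: representatives of the conjugacy classes, with the data of the centralizer searches

Generated.  For each class `XX`: the code `cXX` of the representative, the element `gXX`, the
terms `specXX` and the points `PXX` of the search, and `sokXX : SearchLOK cXX cXX specXX PXX`.
For the five pairs of classes of elements not conjugate to their inverses (orders 7, 14, 15, 21,
23) the class `XXB` is represented by the inverse of the representative of `XXA`, and
`sokXXAi : SearchLOK cXXA cXXB specXXAi PXXA` is the data of the search for conjugators.
-/

set_option autoImplicit false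
set_option maxRecDepth 100000

namespace Cfsg.Agent.Lib.Helper4.M24B

open Cfsg Cfsg.Agent.Lib.Helper1 Cfsg.Agent.Lib.Helper1.PermCode

/-- the code of the representative of the class `2A` -/
def c2A : ℕ := 21647169741103660076458455793304663
theorem chk2A : chkM24 (tabOf c2A) c2A = true := by decide +kernel
/-- the representative of the class `2A` -/
def g2A : GG := gOfChk chk2A
theorem isCode_g2A : IsCode c2A g2A := isCode_gOfChk chk2A
theorem pcanon_c2A : PCanon c2A := isCode_g2A.1
def spec2A : List (ℕ × ℕ × ℕ) := [(0, 984818244535754528103549039458486304, 0), (1, 21647169741103660076458455793304663, 0), (0, 984818244535754528103549039458486304, 1), (1, 21647169741103660076458455793304663, 1), (0, 984818244535754528103549039458486304, 2), (0, 984818244535754528103549039458486304, 3), (1, 21647169741103660076458455793304663, 2)]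
def P2A : List ℕ := [23, 1, 3, 4]
theorem sok2A : SearchLOK c2A c2A spec2A P2A :=
  ⟨⟨by decide +kernel, by decide +kernel, by decide +kernel, by decide +kernel⟩, by decide +kernel, by decide +kernel⟩

/-- the code of the representative of the class `2B` -/
def c2B : ℕ := 6948319157996677191034997895726167
theorem chk2B : chkM24 (tabOf c2B) c2B = true := by decide +kernel
/-- the representative of the class `2B` -/
def g2B : GG := gOfChk chk2B
theorem isCode_g2B : IsCode c2B g2B := isCode_gOfChk chk2B
theorem pcanon_c2B : PCanon c2B := isCode_g2B.1
def spec2B : List (ℕ × ℕ × ℕ) := [(0, 984818244535754528103549039458486304, 0), (1, 6948319157996677191034997895726167, 0), (0, 984818244535754528103549039458486304, 1), (1, 6948319157996677191034997895726167, 1), (0, 984818244535754528103549039458486304, 2), (1, 6948319157996677191034997895726167, 2), (0, 984818244535754528103549039458486304, 3)]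
def P2B : List ℕ := [23, 1, 3, 5]
theorem sok2B : SearchLOK c2B c2B spec2B P2B :=
  ⟨⟨by decide +kernel, by decide +kernel, by decide +kernel, by decide +kernel⟩, by decide +kernel, by decide +kernel⟩

/-- the code of the representative of the class `3A` -/
def c3A : ℕ := 28735447380895331370003749717219041
theorem chk3A : chkM24 (tabOf c3A) c3A = true := by decide +kernel
/-- the representative of the class `3A` -/
def g3A : GG := gOfChk chk3A
theorem isCode_g3A : IsCode c3A g3A := isCode_gOfChk chk3A
theorem pcanon_c3A : PCanon c3A := isCode_g3A.1
def spec3A : List (ℕ × ℕ × ℕ) := [(0, 984818244535754528103549039458486304, 0), (1, 28735447380895331370003749717219041, 0), (2, 70843015948279272660295275494149143, 0), (0, 984818244535754528103549039458486304, 1), (2, 70843015948279272660295275494149143, 1), (0, 984818244535754528103549039458486304, 2), (1, 28735447380895331370003749717219041, 1)]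
def P3A : List ℕ := [23, 2, 4]
theorem sok3A : SearchLOK c3A c3A spec3A P3A :=
  ⟨⟨by decide +kernel, by decide +kernel, by decide +kernel, by decide +kernel⟩, by decide +kernel, by decide +kernel⟩

/-- the code of the representative of the class `3B` -/
def c3B : ℕ := 6791464878426358018044804127133409
theorem chk3B : chkM24 (tabOf c3B) c3B = true := by decide +kernel
/-- the representative of the class `3B` -/
def g3B : GG := gOfChk chk3B
theorem isCode_g3B : IsCode c3B g3B := isCode_gOfChk chk3B
theorem pcanon_c3B : PCanon c3B := isCode_g3B.1
def spec3B : List (ℕ × ℕ × ℕ) := [(0, 984818244535754528103549039458486304, 0), (1, 6791464878426358018044804127133409, 0), (2, 56569471824258327354106516593512471, 0), (0, 984818244535754528103549039458486304, 1), (1, 6791464878426358018044804127133409, 1), (2, 56569471824258327354106516593512471, 1), (0, 984818244535754528103549039458486304, 2)]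
def P3B : List ℕ := [23, 2, 5]
theorem sok3B : SearchLOK c3B c3B spec3B P3B :=
  ⟨⟨by decide +kernel, by decide +kernel, by decide +kernel, by decide +kernel⟩, by decide +kernel, by decide +kernel⟩

/-- the code of the representative of the class `4A` -/
def c4A : ℕ := 101553005462779482458897947166900961
theorem chk4A : chkM24 (tabOf c4A) c4A = true := by decide +kernel
/-- the representative of the class `4A` -/
def g4A : GG := gOfChk chk4A
theorem isCode_g4A : IsCode c4A g4A := isCode_gOfChk chk4A
theorem pcanon_c4A : PCanon c4A := isCode_g4A.1
def spec4A : List (ℕ × ℕ × ℕ) := [(0, 984818244535754528103549039458486304, 0), (2, 29340620570662517957029049942508631, 0), (3, 59967770850609356494461139355327490, 0), (1, 101553005462779482458897947166900961, 0), (0, 984818244535754528103549039458486304, 1), (1, 101553005462779482458897947166900961, 1), (0, 984818244535754528103549039458486304, 2)]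
def P4A : List ℕ := [23, 3, 5]
theorem sok4A : SearchLOK c4A c4A spec4A P4A :=
  ⟨⟨by decide +kernel, by decide +kernel, by decide +kernel, by decide +kernel⟩, by decide +kernel, by decide +kernel⟩

/-- the code of the representative of the class `4B` -/
def c4B : ℕ := 4190352042500705515498003540106305
theorem chk4B : chkM24 (tabOf c4B) c4B = true := by decide +kernel
/-- the representative of the class `4B` -/
def g4B : GG := gOfChk chk4B
theorem isCode_g4B : IsCode c4B g4B := isCode_gOfChk chk4B
theorem pcanon_c4B : PCanon c4B := isCode_g4B.1
def spec4B : List (ℕ × ℕ × ℕ) := [(0, 984818244535754528103549039458486304, 0), (1, 4190352042500705515498003540106305, 0), (2, 47602323197725890978489344939164386, 0), (3, 89864517971314480808098957505528855, 0), (0, 984818244535754528103549039458486304, 1), (1, 4190352042500705515498003540106305, 1), (2, 47602323197725890978489344939164386, 1)]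
def P4B : List ℕ := [23, 3]
theorem sok4B : SearchLOK c4B c4B spec4B P4B :=
  ⟨⟨by decide +kernel, by decide +kernel, by decide +kernel, by decide +kernel⟩, by decide +kernel, by decide +kernel⟩

/-- the code of the representative of the class `4C` -/
def c4C : ℕ := 18919302283807536402108346319049449
theorem chk4C : chkM24 (tabOf c4C) c4C = true := by decide +kernel
/-- the representative of the class `4C` -/
def g4C : GG := gOfChk chk4C
theorem isCode_g4C : IsCode c4C g4C := isCode_gOfChk chk4C
theorem pcanon_c4C : PCanon c4C := isCode_g4C.1
def spec4C : List (ℕ × ℕ × ℕ) := [(0, 984818244535754528103549039458486304, 0), (1, 18919302283807536402108346319049449, 0), (3, 66912012594700932266048756373425463, 0), (0, 984818244535754528103549039458486304, 1), (3, 66912012594700932266048756373425463, 1), (1, 18919302283807536402108346319049449, 1), (2, 384652671534858650909887591921882113, 1)]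
def P4C : List ℕ := [23, 2]
theorem sok4C : SearchLOK c4C c4C spec4C P4C :=
  ⟨⟨by decide +kernel, by decide +kernel, by decide +kernel, by decide +kernel⟩, by decide +kernel, by decide +kernel⟩

/-- the code of the representative of the class `5A` -/
def c5A : ℕ := 13293161325642201526902207183740289
theorem chk5A : chkM24 (tabOf c5A) c5A = true := by decide +kernel
/-- the representative of the class `5A` -/
def g5A : GG := gOfChk chk5A
theorem isCode_g5A : IsCode c5A g5A := isCode_gOfChk chk5A
theorem pcanon_c5A : PCanon c5A := isCode_g5A.1
def spec5A : List (ℕ × ℕ × ℕ) := [(0, 984818244535754528103549039458486304, 0), (1, 13293161325642201526902207183740289, 0), (2, 69622602510451590353754225760174156, 0), (4, 109453293602787305932339745595568151, 0), (0, 984818244535754528103549039458486304, 1), (1, 13293161325642201526902207183740289, 1), (2, 69622602510451590353754225760174156, 1)]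
def P5A : List ℕ := [23, 3]
theorem sok5A : SearchLOK c5A c5A spec5A P5A :=
  ⟨⟨by decide +kernel, by decide +kernel, by decide +kernel, by decide +kernel⟩, by decide +kernel, by decide +kernel⟩

/-- the code of the representative of the class `6A` -/
def c6A : ℕ := 28887991188015900000246598024203329
theorem chk6A : chkM24 (tabOf c6A) c6A = true := by decide +kernel
/-- the representative of the class `6A` -/
def g6A : GG := gOfChk chk6A
theorem isCode_g6A : IsCode c6A g6A := isCode_gOfChk chk6A
theorem pcanon_c6A : PCanon c6A := isCode_g6A.1
def spec6A : List (ℕ × ℕ × ℕ) := [(0, 984818244535754528103549039458486304, 0), (1, 28887991188015900000246598024203329, 0), (2, 70919479791932725099211475269686370, 0), (3, 111812629042434917999848898310462627, 0), (4, 153565230800405521830547477791539941, 0), (0, 984818244535754528103549039458486304, 1), (5, 236747192932645960304056237620790295, 0)]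
def P6A : List ℕ := [23, 4]
theorem sok6A : SearchLOK c6A c6A spec6A P6A :=
  ⟨⟨by decide +kernel, by decide +kernel, by decide +kernel, by decide +kernel⟩, by decide +kernel, by decide +kernel⟩

/-- the code of the representative of the class `6B` -/
def c6B : ℕ := 7289651258481324096830950205426753
theorem chk6B : chkM24 (tabOf c6B) c6B = true := by decide +kernel
/-- the representative of the class `6B` -/
def g6B : GG := gOfChk chk6B
theorem isCode_g6B : IsCode c6B g6B := isCode_gOfChk chk6B
theorem pcanon_c6B : PCanon c6B := isCode_g6B.1
def spec6B : List (ℕ × ℕ × ℕ) := [(0, 984818244535754528103549039458486304, 0), (1, 7289651258481324096830950205426753, 0), (2, 55175190046457744407104923101794402, 0), (3, 91567969467562779295770706040609923, 0), (4, 135494836915394407183987568824845028, 0), (5, 192856139109528615614147315899630615, 0), (0, 984818244535754528103549039458486304, 1)]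
def P6B : List ℕ := [23, 5]
theorem sok6B : SearchLOK c6B c6B spec6B P6B :=
  ⟨⟨by decide +kernel, by decide +kernel, by decide +kernel, by decide +kernel⟩, by decide +kernel, by decide +kernel⟩

/-- the code of the representative of the class `7A` -/
def c7A : ℕ := 21203215604956275722738609107274817
theorem chk7A : chkM24 (tabOf c7A) c7A = true := by decide +kernel
/-- the representative of the class `7A` -/
def g7A : GG := gOfChk chk7A
theorem isCode_g7A : IsCode c7A g7A := isCode_gOfChk chk7A
theorem pcanon_c7A : PCanon c7A := isCode_g7A.1
def spec7A : List (ℕ × ℕ × ℕ) := [(0, 984818244535754528103549039458486304, 0), (1, 21203215604956275722738609107274817, 0), (2, 52390196544120208987602265466651746, 0), (3, 111158268256333309842486156147267107, 0), (4, 138515512651771806505058410708360369, 0), (0, 984818244535754528103549039458486304, 1), (6, 233991994799095267971306787967140887, 0)]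
def P7A : List ℕ := [23, 4]
theorem sok7A : SearchLOK c7A c7A spec7A P7A :=
  ⟨⟨by decide +kernel, by decide +kernel, by decide +kernel, by decide +kernel⟩, by decide +kernel, by decide +kernel⟩

/-- the code of the representative of the class `7B` -/
def c7B : ℕ := 233991994799095267971306787967140887
theorem chk7B : chkM24 (tabOf c7B) c7B = true := by decide +kernel
/-- the representative of the class `7B` -/
def g7B : GG := gOfChk chk7B
theorem isCode_g7B : IsCode c7B g7B := isCode_gOfChk chk7B
theorem pcanon_c7B : PCanon c7B := isCode_g7B.1
theorem c7B_inv : pmu2 c7A c7B = pc1 := by decide +kernel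
def spec7B : List (ℕ × ℕ × ℕ) := [(0, 984818244535754528103549039458486304, 0), (6, 21203215604956275722738609107274817, 0), (5, 52390196544120208987602265466651746, 0), (4, 111158268256333309842486156147267107, 0), (3, 138515512651771806505058410708360369, 0), (0, 984818244535754528103549039458486304, 1), (1, 233991994799095267971306787967140887, 0)]
def P7B : List ℕ := [23, 4]
theorem sok7B : SearchLOK c7B c7B spec7B P7B :=
  ⟨⟨by decide +kernel, by decide +kernel, by decide +kernel, by decide +kernel⟩, by decide +kernel, by decide +kernel⟩
/-- the search for the conjugators of `g7A` to its inverse `g7B` -/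
def spec7Ai : List (ℕ × ℕ × ℕ) := [(0, 984818244535754528103549039458486304, 0), (1, 233991994799095267971306787967140887, 0), (2, 721093164042621524424774599119504101, 0), (3, 138515512651771806505058410708360369, 0), (4, 111158268256333309842486156147267107, 0), (0, 984818244535754528103549039458486304, 1), (6, 21203215604956275722738609107274817, 0)]
theorem sok7Ai : SearchLOK c7A c7B spec7Ai P7A :=
  ⟨⟨by decide +kernel, by decide +kernel, by decide +kernel, by decide +kernel⟩, by decide +kernel, by decide +kernel⟩

/-- the code of the representative of the class `8A` -/
def c8A : ℕ := 134604753064556022350333996703047009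
theorem chk8A : chkM24 (tabOf c8A) c8A = true := by decide +kernel
/-- the representative of the class `8A` -/
def g8A : GG := gOfChk chk8A
theorem isCode_g8A : IsCode c8A g8A := isCode_gOfChk chk8A
theorem pcanon_c8A : PCanon c8A := isCode_g8A.1
def spec8A : List (ℕ × ℕ × ℕ) := [(0, 984818244535754528103549039458486304, 0), (4, 29434394412773751724422352316961911, 0), (5, 51534143549278229094713858227273859, 0), (7, 111084904604899247805807409739049989, 0), (1, 134604753064556022350333996703047009, 0), (2, 189815731018975635171404716093639755, 0), (3, 235703713164554278609221893059777250, 0)]
def P8A : List ℕ := [23]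
theorem sok8A : SearchLOK c8A c8A spec8A P8A :=
  ⟨⟨by decide +kernel, by decide +kernel, by decide +kernel, by decide +kernel⟩, by decide +kernel, by decide +kernel⟩

/-- the code of the representative of the class `10A` -/
def c10A : ℕ := 898802323122217831731460470928414433
theorem chk10A : chkM24 (tabOf c10A) c10A = true := by decide +kernel
/-- the representative of the class `10A` -/
def g10A : GG := gOfChk chk10A
theorem isCode_g10A : IsCode c10A g10A := isCode_gOfChk chk10A
theorem pcanon_c10A : PCanon c10A := isCode_g10A.1
def spec10A : List (ℕ × ℕ × ℕ) := [(0, 984818244535754528103549039458486304, 0), (8, 20825173522042322895063398336247395, 0), (9, 58076284844322417101185891140014099, 0), (4, 105370500569974108529932518620364941, 0), (6, 143569220466783467962602815829236898, 0), (3, 177939778368401549750950299373194677, 0), (5, 231197194464072110805525706679419972, 0)]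
def P10A : List ℕ := [23]
theorem sok10A : SearchLOK c10A c10A spec10A P10A :=
  ⟨⟨by decide +kernel, by decide +kernel, by decide +kernel, by decide +kernel⟩, by decide +kernel, by decide +kernel⟩

/-- the code of the representative of the class `11A` -/
def c11A : ℕ := 877633018231522509488778209836729078
theorem chk11A : chkM24 (tabOf c11A) c11A = true := by decide +kernel
/-- the representative of the class `11A` -/
def g11A : GG := gOfChk chk11A
theorem isCode_g11A : IsCode c11A g11A := isCode_gOfChk chk11A
theorem pcanon_c11A : PCanon c11A := isCode_g11A.1
def spec11A : List (ℕ × ℕ × ℕ) := [(0, 984818244535754528103549039458486304, 0), (5, 30770283907959143220420185500556353, 0), (10, 42487096851466361289464695178840290, 0), (4, 84395349748338138072249933617632839, 0), (2, 131844061160897671266786696651430564, 0), (7, 170268968410283161938583306136444629, 0), (8, 231357989027303007872446574155060355, 0)]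
def P11A : List ℕ := [23]
theorem sok11A : SearchLOK c11A c11A spec11A P11A :=
  ⟨⟨by decide +kernel, by decide +kernel, by decide +kernel, by decide +kernel⟩, by decide +kernel, by decide +kernel⟩

/-- the code of the representative of the class `12A` -/
def c12A : ℕ := 13672349861782449711550275016330313
theorem chk12A : chkM24 (tabOf c12A) c12A = true := by decide +kernel
/-- the representative of the class `12A` -/
def g12A : GG := gOfChk chk12A
theorem isCode_g12A : IsCode c12A g12A := isCode_gOfChk chk12A
theorem pcanon_c12A : PCanon c12A := isCode_g12A.1
def spec12A : List (ℕ × ℕ × ℕ) := [(0, 984818244535754528103549039458486304, 0), (1, 13672349861782449711550275016330313, 0), (7, 61699316882788688751495984225824034, 0), (8, 111971221282157643605947095047556451, 0), (9, 137893776264471661985876651928078948, 0), (10, 174453178658208570950878913867338309, 0), (11, 227754172844715264367344841777022615, 0)]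
def P12A : List ℕ := [23]
theorem sok12A : SearchLOK c12A c12A spec12A P12A :=
  ⟨⟨by decide +kernel, by decide +kernel, by decide +kernel, by decide +kernel⟩, by decide +kernel, by decide +kernel⟩

/-- the code of the representative of the class `12B` -/
def c12B : ℕ := 21554792903815948983852886509358154
theorem chk12B : chkM24 (tabOf c12B) c12B = true := by decide +kernel
/-- the representative of the class `12B` -/
def g12B : GG := gOfChk chk12B
theorem isCode_g12B : IsCode c12B g12B := isCode_gOfChk chk12B
theorem pcanon_c12B : PCanon c12B := isCode_g12B.1
def spec12B : List (ℕ × ℕ × ℕ) := [(0, 984818244535754528103549039458486304, 0), (1, 21554792903815948983852886509358154, 0), (4, 52349580226569041768855091365458082, 0), (5, 101955937177027121178105907942905219, 0), (6, 133753717303571274116131531682205348, 0), (7, 189610241946100684083386076331269733, 0), (8, 227302599484236140128587640070275820, 0)]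
def P12B : List ℕ := [23]
theorem sok12B : SearchLOK c12B c12B spec12B P12B :=
  ⟨⟨by decide +kernel, by decide +kernel, by decide +kernel, by decide +kernel⟩, by decide +kernel, by decide +kernel⟩

/-- the code of the representative of the class `14A` -/
def c14A : ℕ := 357560704046697205035710311129560129
theorem chk14A : chkM24 (tabOf c14A) c14A = true := by decide +kernel
/-- the representative of the class `14A` -/
def g14A : GG := gOfChk chk14A
theorem isCode_g14A : IsCode c14A g14A := isCode_gOfChk chk14A
theorem pcanon_c14A : PCanon c14A := isCode_g14A.1
def spec14A : List (ℕ × ℕ × ℕ) := [(0, 984818244535754528103549039458486304, 0), (7, 29435615137403414940629771404881175, 0), (8, 66792081206988906450609532503133544, 0), (9, 111168454888490880502617358108602475, 0), (3, 143506475364380887903187020951130701, 0), (12, 189140444674599609752282686702223685, 0), (5, 230678830684036599950266699418229956, 0)]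
def P14A : List ℕ := [23]
theorem sok14A : SearchLOK c14A c14A spec14A P14A :=
  ⟨⟨by decide +kernel, by decide +kernel, by decide +kernel, by decide +kernel⟩, by decide +kernel, by decide +kernel⟩

/-- the code of the representative of the class `14B` -/
def c14B : ℕ := 270788803714714748962804147310396426
theorem chk14B : chkM24 (tabOf c14B) c14B = true := by decide +kernel
/-- the representative of the class `14B` -/
def g14B : GG := gOfChk chk14B
theorem isCode_g14B : IsCode c14B g14B := isCode_gOfChk chk14B
theorem pcanon_c14B : PCanon c14B := isCode_g14B.1
theorem c14B_inv : pmu2 c14A c14B = pc1 := by decide +kernel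
def spec14B : List (ℕ × ℕ × ℕ) := [(0, 984818244535754528103549039458486304, 0), (7, 29435615137403414940629771404881175, 0), (6, 66792081206988906450609532503133544, 0), (5, 111168454888490880502617358108602475, 0), (11, 143506475364380887903187020951130701, 0), (2, 189140444674599609752282686702223685, 0), (9, 230678830684036599950266699418229956, 0)]
def P14B : List ℕ := [23]
theorem sok14B : SearchLOK c14B c14B spec14B P14B :=
  ⟨⟨by decide +kernel, by decide +kernel, by decide +kernel, by decide +kernel⟩, by decide +kernel, by decide +kernel⟩
/-- the search for the conjugators of `g14A` to its inverse `g14B` -/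
def spec14Ai : List (ℕ × ℕ × ℕ) := [(0, 984818244535754528103549039458486304, 0), (7, 29435615137403414940629771404881175, 0), (8, 436942290808731414994136269571826406, 0), (9, 230678830684036599950266699418229956, 0), (3, 774326029897345464233064725318707372, 0), (12, 485013823751540511564328177830644130, 0), (5, 111168454888490880502617358108602475, 0)]
theorem sok14Ai : SearchLOK c14A c14B spec14Ai P14A :=
  ⟨⟨by decide +kernel, by decide +kernel, by decide +kernel, by decide +kernel⟩, by decide +kernel, by decide +kernel⟩

/-- the code of the representative of the class `15A` -/
def c15A : ℕ := 308469411247371119632206038423447617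
theorem chk15A : chkM24 (tabOf c15A) c15A = true := by decide +kernel
/-- the representative of the class `15A` -/
def g15A : GG := gOfChk chk15A
theorem isCode_g15A : IsCode c15A g15A := isCode_gOfChk chk15A
theorem pcanon_c15A : PCanon c15A := isCode_g15A.1
def spec15A : List (ℕ × ℕ × ℕ) := [(0, 984818244535754528103549039458486304, 0), (3, 28930502838589551516774570652844298, 0), (4, 58684287999272043301278187210184200, 0), (5, 107319593520810591673496671429341360, 0), (13, 141863004879068498058579818603708967, 0), (14, 189789336657626141113756335658697745, 0), (9, 236519618908424100030267894184284270, 0)]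
def P15A : List ℕ := [23]
theorem sok15A : SearchLOK c15A c15A spec15A P15A :=
  ⟨⟨by decide +kernel, by decide +kernel, by decide +kernel, by decide +kernel⟩, by decide +kernel, by decide +kernel⟩

/-- the code of the representative of the class `15B` -/
def c15B : ℕ := 189789336657626141113756335658697745
theorem chk15B : chkM24 (tabOf c15B) c15B = true := by decide +kernel
/-- the representative of the class `15B` -/
def g15B : GG := gOfChk chk15B
theorem isCode_g15B : IsCode c15B g15B := isCode_gOfChk chk15B
theorem pcanon_c15B : PCanon c15B := isCode_g15B.1
theorem c15B_inv : pmu2 c15A c15B = pc1 := by decide +kernel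
def spec15B : List (ℕ × ℕ × ℕ) := [(0, 984818244535754528103549039458486304, 0), (12, 28930502838589551516774570652844298, 0), (11, 58684287999272043301278187210184200, 0), (10, 107319593520810591673496671429341360, 0), (2, 141863004879068498058579818603708967, 0), (1, 189789336657626141113756335658697745, 0), (6, 236519618908424100030267894184284270, 0)]
def P15B : List ℕ := [23]
theorem sok15B : SearchLOK c15B c15B spec15B P15B :=
  ⟨⟨by decide +kernel, by decide +kernel, by decide +kernel, by decide +kernel⟩, by decide +kernel, by decide +kernel⟩
/-- the search for the conjugators of `g15A` to its inverse `g15B` -/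
def spec15Ai : List (ℕ × ℕ × ℕ) := [(0, 984818244535754528103549039458486304, 0), (3, 610553159010478890959399893922628855, 0), (4, 813420032025171870448751213900111588, 0), (5, 516213101342608575168969201455488131, 0), (13, 729975465480054925168967798706905410, 0), (14, 308469411247371119632206038423447617, 0), (9, 444767318292151312888572218347408773, 0)]
theorem sok15Ai : SearchLOK c15A c15B spec15Ai P15A :=
  ⟨⟨by decide +kernel, by decide +kernel, by decide +kernel, by decide +kernel⟩, by decide +kernel, by decide +kernel⟩

/-- the code of the representative of the class `21A` -/
def c21A : ℕ := 340690859338869967293370922590814273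
theorem chk21A : chkM24 (tabOf c21A) c21A = true := by decide +kernel
/-- the representative of the class `21A` -/
def g21A : GG := gOfChk chk21A
theorem isCode_g21A : IsCode c21A g21A := isCode_gOfChk chk21A
theorem pcanon_c21A : PCanon c21A := isCode_g21A.1
def spec21A : List (ℕ × ℕ × ℕ) := [(0, 984818244535754528103549039458486304, 0), (17, 26343551510903502618540956159874191, 0), (18, 69540311897738244822628367665171620, 0), (19, 101760233124191645008129986053406821, 0), (16, 140730232714422746210375343419888113, 0), (14, 178789957360312395438031366807733462, 0), (15, 231411244504231850179275579793817126, 0)]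
def P21A : List ℕ := [23]
theorem sok21A : SearchLOK c21A c21A spec21A P21A :=
  ⟨⟨by decide +kernel, by decide +kernel, by decide +kernel, by decide +kernel⟩, by decide +kernel, by decide +kernel⟩

/-- the code of the representative of the class `21B` -/
def c21B : ℕ := 690104482135644086112490057731572739
theorem chk21B : chkM24 (tabOf c21B) c21B = true := by decide +kernel
/-- the representative of the class `21B` -/
def g21B : GG := gOfChk chk21B
theorem isCode_g21B : IsCode c21B g21B := isCode_gOfChk chk21B
theorem pcanon_c21B : PCanon c21B := isCode_g21B.1
theorem c21B_inv : pmu2 c21A c21B = pc1 := by decide +kernel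
def spec21B : List (ℕ × ℕ × ℕ) := [(0, 984818244535754528103549039458486304, 0), (4, 26343551510903502618540956159874191, 0), (3, 69540311897738244822628367665171620, 0), (2, 101760233124191645008129986053406821, 0), (5, 140730232714422746210375343419888113, 0), (7, 178789957360312395438031366807733462, 0), (6, 231411244504231850179275579793817126, 0)]
def P21B : List ℕ := [23]
theorem sok21B : SearchLOK c21B c21B spec21B P21B :=
  ⟨⟨by decide +kernel, by decide +kernel, by decide +kernel, by decide +kernel⟩, by decide +kernel, by decide +kernel⟩
/-- the search for the conjugators of `g21A` to its inverse `g21B` -/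
def spec21Ai : List (ℕ × ℕ × ℕ) := [(0, 984818244535754528103549039458486304, 0), (17, 753154933385336295467979576524158231, 0), (18, 394233698063365445368024877838181104, 0), (19, 562854876217654845678492788435508738, 0), (16, 505648259321640240948177002486801832, 0), (14, 872487272641728541166764681386701385, 0), (15, 835291967716147661365914337617922349, 0)]
theorem sok21Ai : SearchLOK c21A c21B spec21Ai P21A :=
  ⟨⟨by decide +kernel, by decide +kernel, by decide +kernel, by decide +kernel⟩, by decide +kernel, by decide +kernel⟩

/-- the code of the representative of the class `23A` -/
def c23A : ℕ := 252424201980106526869259340346627087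
theorem chk23A : chkM24 (tabOf c23A) c23A = true := by decide +kernel
/-- the representative of the class `23A` -/
def g23A : GG := gOfChk chk23A
theorem isCode_g23A : IsCode c23A g23A := isCode_gOfChk chk23A
theorem pcanon_c23A : PCanon c23A := isCode_g23A.1
def spec23A : List (ℕ × ℕ × ℕ) := [(0, 984818244535754528103549039458486304, 0), (5, 9777719738396356728622487401337139, 0), (4, 56081071112673016216913708136865097, 0), (13, 105943550138241475970021645651460324, 0), (7, 140251877380196313204482250456094294, 0), (18, 170381133623539476848855788085095063, 0), (14, 229194022986756744372599122621301900, 0)]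
def P23A : List ℕ := [23]
theorem sok23A : SearchLOK c23A c23A spec23A P23A :=
  ⟨⟨by decide +kernel, by decide +kernel, by decide +kernel, by decide +kernel⟩, by decide +kernel, by decide +kernel⟩

/-- the code of the representative of the class `23B` -/
def c23B : ℕ := 854637738468152814049297045969689089
theorem chk23B : chkM24 (tabOf c23B) c23B = true := by decide +kernel
/-- the representative of the class `23B` -/
def g23B : GG := gOfChk chk23B
theorem isCode_g23B : IsCode c23B g23B := isCode_gOfChk chk23B
theorem pcanon_c23B : PCanon c23B := isCode_g23B.1
theorem c23B_inv : pmu2 c23A c23B = pc1 := by decide +kernel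
def spec23B : List (ℕ × ℕ × ℕ) := [(0, 984818244535754528103549039458486304, 0), (18, 9777719738396356728622487401337139, 0), (19, 56081071112673016216913708136865097, 0), (10, 105943550138241475970021645651460324, 0), (16, 140251877380196313204482250456094294, 0), (5, 170381133623539476848855788085095063, 0), (9, 229194022986756744372599122621301900, 0)]
def P23B : List ℕ := [23]
theorem sok23B : SearchLOK c23B c23B spec23B P23B :=
  ⟨⟨by decide +kernel, by decide +kernel, by decide +kernel, by decide +kernel⟩, by decide +kernel, by decide +kernel⟩
/-- the search for the conjugators of `g23A` to its inverse `g23B` -/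
def spec23Ai : List (ℕ × ℕ × ℕ) := [(0, 984818244535754528103549039458486304, 0), (5, 170381133623539476848855788085095063, 0), (4, 511893122670829025111018509184804582, 0), (13, 815324560183788351842515354090986664, 0), (7, 457014029627533018880326657926479534, 0), (18, 9777719738396356728622487401337139, 0), (14, 392640063702451122534975918180782149, 0)]
theorem sok23Ai : SearchLOK c23A c23B spec23Ai P23A :=
  ⟨⟨by decide +kernel, by decide +kernel, by decide +kernel, by decide +kernel⟩, by decide +kernel, by decide +kernel⟩

end Cfsg.Agent.Lib.Helper4.M24B
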