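import Cfsg.Agent.Lib.Helper4.M24B.Fast

/-!
# M24: the search for the elements `c` with `c g = h c`, level by level

The images of the points of `P` are chosen when the sifting first needs them, so that the tests of
the chain prune the search early.  The result lists the tuples of images; the code of the element
is `candC spec t`.
-/

set_option autoImplicit false

namespace Cfsg.Agent.Lib.Helper4.M24B

open Cfsg Cfsg.Agent.Lib.Helper1 Cfsg.Agent.Lib.Helper1.PermCode

/-- apply the codes of the list one after the other -/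
def applyAll (uis : List ℕ) (y : ℕ) : ℕ := uis.foldl (fun y ui => pdF ui y) y

theorem applyAll_nil (y : ℕ) : applyAll [] y = y := rfl

theorem applyAll_append (uis : List ℕ) (ui y : ℕ) :
    applyAll (uis ++ [ui]) y = pd ui (applyAll uis y) := by
  unfold applyAll
  rw [List.foldl_append, List.foldl_cons, List.foldl_nil, pdF_eq]

/-- the code with the images `t` of the points of `P` -/
def candC (spec : List (ℕ × ℕ × ℕ)) (t : List ℕ) : ℕ := siftT chain (candT spec t)

theorem candC_eq {g h : ℕ} {spec : List (ℕ × ℕ × ℕ)} {P : List ℕ}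
    (hS : SearchOK g h spec P) {c : GG} {cc : ℕ} (hc : IsCode cc c)
    (hcomm : pmu2 cc g = pmu2 h cc) : candC spec (P.map (pd cc)) = cc := by
  unfold candC
  rw [candT_eq hS hc.1 hcomm]
  exact sift_chain hc

/-- the test at the end: `c⁻¹ h c` and `g` agree at the base points -/
def leafTest (g h : ℕ) (spec₀ : List (ℕ × ℕ × ℕ)) (uis t : List ℕ) : Bool :=
  ((candTF spec₀ t).map fun τ => applyAll uis (pdF h τ)) == baseL.map (pdF g)

/-- the search, level by level -/
def stepL (g h : ℕ) (spec₀ : List (ℕ × ℕ × ℕ)) :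
    List Lvl → List (ℕ × ℕ × ℕ) → List ℕ → List ℕ → List (List ℕ)
  | [], _, uis, t => bif leafTest g h spec₀ uis t then [t] else []
  | _ :: _, [], _, _ => []
  | L :: Ls, e :: sp, uis, t =>
    bif Nat.blt e.2.2 t.length then
      bif Nat.beq (L.u (applyAll uis (pdF e.2.1 (t.getD e.2.2 0)))) 0 then [] else
        stepL g h spec₀ Ls sp (uis ++ [L.ui (applyAll uis (pdF e.2.1 (t.getD e.2.2 0)))]) t
    else
      (List.range 24).flatMap fun x =>
        bif Nat.beq (L.u (applyAll uis (pdF e.2.1 x))) 0 then [] else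
          stepL g h spec₀ Ls sp (uis ++ [L.ui (applyAll uis (pdF e.2.1 x))]) (t ++ [x])

/-- the images are chosen in the order of the list `P`, and all of them are chosen -/
def CoordOK (n : ℕ) : ℕ → List (ℕ × ℕ × ℕ) → Prop
  | i, [] => i = n
  | i, e :: sp => (e.2.2 < i ∧ CoordOK n i sp) ∨ (e.2.2 = i ∧ CoordOK n (i + 1) sp)

instance (n : ℕ) : ∀ (i : ℕ) (sp : List (ℕ × ℕ × ℕ)), Decidable (CoordOK n i sp)
  | i, [] => inferInstanceAs (Decidable (i = n))
  | i, e :: sp =>
    haveI := instDecidableCoordOK n i sp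
    haveI := instDecidableCoordOK n (i + 1) sp
    inferInstanceAs (Decidable ((e.2.2 < i ∧ CoordOK n i sp) ∨ (e.2.2 = i ∧ CoordOK n (i + 1) sp)))

theorem pd_inj_of_isCode {c : GG} {cc : ℕ} (hc : IsCode cc c) {i j : ℕ} (hi : i < 24) (hj : j < 24)
    (h : pd cc i = pd cc j) : i = j := by
  rw [pd_of_isCode hc i hi, pd_of_isCode hc j hj] at h
  have h1 := (c : Equiv.Perm GolayPt).injective (PermCode.gIdx_injective h)
  have h2 := congrArg gIdx h1
  rwa [gIdx_gUnidx i hi, gIdx_gUnidx j hj] at h2

theorem getD_take_map {P : List ℕ} {f : ℕ → ℕ} {i m : ℕ} (hm : m < i) (hi : i ≤ P.length) :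
    ((P.take i).map f).getD m 0 = f (P.getD m 0) := by
  have h1 : m < ((P.take i).map f).length := by
    rw [List.length_map, List.length_take]; omega
  rw [List.getD_eq_getElem _ _ h1, List.getElem_map, List.getElem_take,
    List.getD_eq_getElem _ _ (by omega)]

/-- the invariant of the search along the path of the element `c` -/
theorem stepL_complete {g h : ℕ} {spec₀ : List (ℕ × ℕ × ℕ)} {P : List ℕ}
    (hS : SearchOK g h spec₀ P) {c : GG} {cc : ℕ} (hc : IsCode cc c) (hg : PCanon g)
    (hh : PCanon h) (hcomm : pmu2 cc g = pmu2 h cc) :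
    ∀ (Ls : List Lvl) (fx : List ℕ) (sp : List (ℕ × ℕ × ℕ)) (uis : List ℕ) (i : ℕ)
      (cj : GG) (ccj : ℕ), ChainOK fx Ls → (∀ j ∈ fx, j < 24) → IsCode ccj cj →
      (∀ j ∈ fx, pd ccj j = j) → (∀ x < 24, applyAll uis (pd cc x) = pd ccj x) →
      List.Forall₂ (fun (e : ℕ × ℕ × ℕ) (L : Lvl) =>
        pd e.2.1 (pd cc (P.getD e.2.2 0)) = pd cc L.b ∧ e.2.2 < P.length) sp Ls →
      CoordOK P.length i sp → i ≤ P.length →
      P.map (pd cc) ∈ stepL g h spec₀ Ls sp uis ((P.take i).map (pd cc)) := by
  intro Ls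
  induction Ls with
  | nil =>
    intro fx sp uis i cj ccj hch _ hcj hfix hraw hF hco _
    have hsp : sp = [] := by cases hF; rfl
    subst hsp
    have hi : i = P.length := hco
    subst hi
    rw [List.take_length, stepL]
    have hccj : ccj = pc1 := hch cj ccj hcj hfix
    have htest : leafTest g h spec₀ uis (P.map (pd cc)) = true := by
      unfold leafTest
      rw [beq_iff_eq, candTF_eq, candT_eq hS hc.1 hcomm, List.map_map, pdF_eq]
      apply List.map_congr_left
      intro b hb
      have hb' := baseL_lt b hb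
      show applyAll uis (pd h (pd cc b)) = pd g b
      rw [← pd_pmu2_canon hh hc.1 b hb', ← hcomm, pd_pmu2_canon hc.1 hg b hb',
        hraw _ (hg.2 b hb'), hccj, pd_pc1 _ (hg.2 b hb')]
    rw [htest, cond_true]
    exact List.mem_singleton_self _
  | cons L Ls ih =>
    intro fx sp uis i cj ccj hch hfx hcj hfix hraw hF hco hi
    obtain ⟨e, sp', hR, hF', rfl⟩ : ∃ e sp', (pd e.2.1 (pd cc (P.getD e.2.2 0)) = pd cc L.b ∧
        e.2.2 < P.length) ∧ List.Forall₂ (fun (e : ℕ × ℕ × ℕ) (L : Lvl) =>
        pd e.2.1 (pd cc (P.getD e.2.2 0)) = pd cc L.b ∧ e.2.2 < P.length) sp' Ls ∧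
        sp = e :: sp' := by
      cases hF with
      | cons h1 h2 => exact ⟨_, _, h1, h2, rfl⟩
    obtain ⟨c', hc', hfix', -, hne, hUi⟩ := sift_step hch.1 hcj hfix hfx
    have hb : L.b < 24 := lvl_b_lt hch.1.chk
    have hfx' : ∀ j ∈ fx ++ [L.b], j < 24 := by
      intro j hj
      rw [List.mem_append, List.mem_singleton] at hj
      rcases hj with hj | rfl
      · exact hfx j hj
      · exact hb
    -- the target of this level
    have htarget : applyAll uis (pd e.2.1 (pd cc (P.getD e.2.2 0))) = pd ccj L.b := by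
      rw [hR.1, hraw L.b hb]
    have hne' : Nat.beq (L.u (pd ccj L.b)) 0 = false := by
      rw [← Bool.not_eq_true, Nat.beq_eq]
      exact hne
    have hraw' : ∀ x < 24, applyAll (uis ++ [L.ui (pd ccj L.b)]) (pd cc x) =
        pd (pmu2 (L.ui (pd ccj L.b)) ccj) x := by
      intro x hx
      rw [applyAll_append, hraw x hx, pd_pmu2_canon hUi hcj.1 x hx]
    have hlen : ((P.take i).map (pd cc)).length = i := by
      rw [List.length_map, List.length_take]; omega
    rw [stepL]
    simp only [pdF_eq]
    rcases hco with ⟨hlt, hco'⟩ | ⟨heq, hco'⟩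
    · have hblt : Nat.blt e.2.2 ((P.take i).map (pd cc)).length = true := by
        rw [hlen, Nat.blt_eq]; exact hlt
      rw [hblt, cond_true, getD_take_map hlt hi, htarget, hne', cond_false]
      exact ih (fx ++ [L.b]) sp' _ i c' _ hch.2 hfx' hc' hfix' hraw' hF' hco' hi
    · have hblt : Nat.blt e.2.2 ((P.take i).map (pd cc)).length = false := by
        rw [hlen, ← Bool.not_eq_true, Nat.blt_eq, heq]; exact lt_irrefl i
      rw [hblt, cond_false, List.mem_flatMap]
      have hiP : i < P.length := heq ▸ hR.2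
      refine ⟨pd cc (P.getD e.2.2 0), List.mem_range.2 (hc.1.2 _ ?_), ?_⟩
      · rw [List.getD_eq_getElem _ _ hR.2]
        exact hS.hP _ (List.getElem_mem hR.2)
      · rw [htarget, hne', cond_false]
        have htake : (P.take i).map (pd cc) ++ [pd cc (P.getD e.2.2 0)] =
            (P.take (i + 1)).map (pd cc) := by
          rw [heq, List.getD_eq_getElem _ _ hiP, List.take_succ_eq_append_getElem hiP,
            List.map_append, List.map_cons, List.map_nil]
        rw [htake]
        exact ih (fx ++ [L.b]) sp' _ (i + 1) c' _ hch.2 hfx' hc' hfix' hraw' hF' hco' hiP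

theorem forall₂_of_map_eq {α β γ : Type} (f : α → γ) (g' : β → γ) (R : α → β → Prop) :
    ∀ (l₁ : List α) (l₂ : List β), l₁.map f = l₂.map g' →
      (∀ a ∈ l₁, ∀ b, f a = g' b → R a b) → List.Forall₂ R l₁ l₂ := by
  intro l₁
  induction l₁ with
  | nil =>
    intro l₂ h _
    cases l₂ with
    | nil => exact List.Forall₂.nil
    | cons b l₂ => simp at h
  | cons a l₁ ih =>
    intro l₂ h hR
    cases l₂ with
    | nil => simp at h
    | cons b l₂ =>
      rw [List.map_cons, List.map_cons, List.cons.injEq] at h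
      exact List.Forall₂.cons (hR a List.mem_cons_self b h.1)
        (ih l₂ h.2 (fun a' ha' => hR a' (List.mem_cons_of_mem _ ha')))

/-- the data of a search, level by level -/
structure SearchLOK (g h : ℕ) (spec : List (ℕ × ℕ × ℕ)) (P : List ℕ) : Prop extends
    SearchOK g h spec P where
  /-- the order of the choices -/
  hco : CoordOK P.length 0 spec
  /-- as many terms as levels -/
  hlen : spec.length = 7

/-- **completeness of the search level by level** -/
theorem mem_stepL {g h : ℕ} {spec : List (ℕ × ℕ × ℕ)} {P : List ℕ}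
    (hS : SearchLOK g h spec P) {c : GG} {cc : ℕ} (hc : IsCode cc c) (hg : PCanon g)
    (hh : PCanon h) (hcomm : pmu2 cc g = pmu2 h cc) :
    P.map (pd cc) ∈ stepL g h spec chain spec [] [] ∧ candC spec (P.map (pd cc)) = cc := by
  refine ⟨?_, candC_eq hS.toSearchOK hc hcomm⟩
  have h0 := stepL_complete hS.toSearchOK hc hg hh hcomm chain [] spec [] 0 c cc chain_ok
    (by simp) hc (by simp) (fun x _ => applyAll_nil _) ?_ hS.hco (Nat.zero_le _)
  · simpa using h0
  · -- the terms of `spec` correspond to the levels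
    have hmap : spec.map (fun km => pd (ppow g km.1) (P.getD km.2.2 0)) = chain.map Lvl.b :=
      hS.hspec
    apply forall₂_of_map_eq _ _ _ _ _ hmap
    intro e he L hL
    have hlt : e.2.2 < P.length := hS.hidx e he
    have hp : P.getD e.2.2 0 < 24 := by
      rw [List.getD_eq_getElem _ _ hlt]
      exact hS.hP _ (List.getElem_mem hlt)
    refine ⟨?_, hlt⟩
    rw [hS.hHP e he, pd_comm_ppow hc.1 hcomm e.1 _ hp, hL]

end Cfsg.Agent.Lib.Helper4.M24B
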