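import Cfsg.Agent.Lib.Helper1.M24OutG
import Cfsg.Agent.Lib.Helper1.M24D

/-!
# M24: codes of group elements
-/

set_option autoImplicit false

namespace Cfsg.Agent.Lib.Helper4.M24B

open Cfsg Cfsg.Agent.Lib.Helper1 Cfsg.Agent.Lib.Helper1.PermCode
open Cfsg.Agent.Lib.Helper1.M24O (gp gh gv phi_p phi_h phi_v can_p can_h can_v gen)
open Cfsg.Agent.Lib.Helper1.M23O (cP cH)
open Cfsg.Agent.Lib.Helper1.M24O (cV)
open Cfsg.Agent.Lib.Helper9.M24 (tperm)

/-- the group -/
abbrev GG : Type := ↥Cfsg.M24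

/-- the faithful representation by transformations of `Fin 24` -/
abbrev Φ : GG →* Function.End (Fin 24) := phiP Cfsg.M24

theorem Φ_injective : Function.Injective Φ := phiP_injective _

/-- `c` is the canonical code of `g` -/
def IsCode (c : ℕ) (g : GG) : Prop := PCanon c ∧ PD c = Φ g

theorem IsCode.mul {a b : ℕ} {g h : GG} (ha : IsCode a g) (hb : IsCode b h) :
    IsCode (pmu2 a b) (g * h) :=
  ⟨canon_pmu2 a b, by rw [PD_pmu2, ha.2, hb.2, map_mul]⟩

theorem isCode_one : IsCode pc1 (1 : GG) := ⟨canon_pc1, by rw [PD_pc1, map_one]⟩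

theorem IsCode.code_unique {a b : ℕ} {g : GG} (ha : IsCode a g) (hb : IsCode b g) : a = b :=
  PD_inj ha.1 hb.1 (by rw [ha.2, hb.2])

theorem IsCode.elt_unique {a : ℕ} {g h : GG} (hg : IsCode a g) (hh : IsCode a h) : g = h :=
  Φ_injective (by rw [← hg.2, ← hh.2])

theorem IsCode.pow {a : ℕ} {g : GG} (ha : IsCode a g) (n : ℕ) :
    ∃ c, IsCode c (g ^ n) := by
  induction n with
  | zero => exact ⟨pc1, by rw [pow_zero]; exact isCode_one⟩
  | succ n ih =>
    obtain ⟨c, hc⟩ := ih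
    exact ⟨pmu2 c a, by rw [pow_succ]; exact hc.mul ha⟩

theorem IsCode.inv_of_mul {a b : ℕ} {g : GG} (ha : IsCode a g) (hb : PCanon b)
    (h : pmu2 a b = pc1) : IsCode b g⁻¹ := by
  refine ⟨hb, ?_⟩
  have h1 : PD a * PD b = 1 := by rw [← PD_pmu2, h, PD_pc1]
  rw [ha.2] at h1
  have h2 : Φ g⁻¹ * (Φ g * PD b) = PD b := by
    rw [← mul_assoc, ← map_mul, inv_mul_cancel, map_one, one_mul]
  rw [← h2, h1, mul_one]

theorem isCode_gP : IsCode cP gp := ⟨can_p, phi_p.symm⟩
theorem isCode_gH : IsCode cH gh := ⟨can_h, phi_h.symm⟩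
theorem isCode_gV : IsCode cV gv := ⟨can_v, phi_v.symm⟩

theorem canon_of_pmu2_pc1 {c : ℕ} (h : pmu2 c pc1 = c) : PCanon c := by
  rw [← h]; exact canon_pmu2 c pc1

theorem exists_code (g : GG) : ∃ c, IsCode c g := by
  have hg : g ∈ Subgroup.closure ({gp, gh, gv} : Set GG) := by rw [gen]; trivial
  induction hg using Subgroup.closure_induction with
  | mem x hx =>
    rcases hx with rfl | rfl | rfl
    · exact ⟨_, isCode_gP⟩
    · exact ⟨_, isCode_gH⟩
    · exact ⟨_, isCode_gV⟩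
  | one => exact ⟨_, isCode_one⟩
  | mul x y _ _ hx hy =>
    obtain ⟨a, ha⟩ := hx
    obtain ⟨b, hb⟩ := hy
    exact ⟨_, ha.mul hb⟩
  | inv x _ hx =>
    obtain ⟨a, ha⟩ := hx
    have h1 : x⁻¹ = x ^ (orderOf x - 1) := by
      have hpos : 0 < orderOf x := orderOf_pos x
      apply inv_eq_of_mul_eq_one_right
      rw [← pow_succ', Nat.sub_add_cancel hpos, pow_orderOf_eq_one]
    rw [h1]
    exact ha.pow _

/-- the code of a group element -/
noncomputable def cd (g : GG) : ℕ := (exists_code g).choose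

theorem isCode_cd (g : GG) : IsCode (cd g) g := (exists_code g).choose_spec

theorem cd_eq {c : ℕ} {g : GG} (h : IsCode c g) : cd g = c := (isCode_cd g).code_unique h

theorem cd_injective : Function.Injective cd := fun g h e =>
  (isCode_cd g).elt_unique (e ▸ isCode_cd h)

theorem cd_mul (g h : GG) : cd (g * h) = pmu2 (cd g) (cd h) :=
  cd_eq ((isCode_cd g).mul (isCode_cd h))

theorem cd_one : cd (1 : GG) = pc1 := cd_eq isCode_one

/-- the element given by a checked table -/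
def gOfChk {t : List ℕ} {c : ℕ} (h : chkM24 t c = true) : GG := ⟨tperm t, chkM24_mem h⟩

theorem isCode_gOfChk {t : List ℕ} {c : ℕ} (h : chkM24 t c = true) : IsCode c (gOfChk h) := by
  obtain ⟨_, _, h3, h4⟩ := chkTab_sound h
  exact ⟨h4, h3.symm⟩

/-- the digits of the code are the images of the points -/
theorem pd_of_isCode {c : ℕ} {g : GG} (h : IsCode c g) (i : ℕ) (hi : i < 24) :
    pd c i = gIdx ((g : Equiv.Perm GolayPt) (gUnidx i)) := by
  have h1 := congrFun h.2 ⟨i, hi⟩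
  have h2 := congrArg (fun x : Fin 24 => (x : ℕ)) h1
  have h3 : pd c i % 24 = gIdx ((g : Equiv.Perm GolayPt) (gUnidx i)) := h2
  rw [← h3, Nat.mod_eq_of_lt (h.1.2 i hi)]

end Cfsg.Agent.Lib.Helper4.M24B
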