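import Cfsg.Agent.Lib.Helper4.M24B.Sem1

/-!
# M24: sifting through a chain of stabilizers, on codes

A level of the chain is a base point `b`, a test `pred` for the orbit of `b` under the stabilizer of
the points fixed so far, and two tables: the code `U[q]` of an element of the group fixing the
earlier base points and sending `b` to `q`, and the code `Ui[q]` of its inverse.  The code of a
group element is recovered from the images of the base points.
-/

set_option autoImplicit false

namespace Cfsg.Agent.Lib.Helper4.M24B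

open Cfsg Cfsg.Agent.Lib.Helper1 Cfsg.Agent.Lib.Helper1.PermCode

theorem pd_pmu2 (a b i : ℕ) (hi : i < 24) : pd (pmu2 a b) i = pd a (pd b i % 24) % 24 := by
  rw [pmu2_eq, pd_pmu a b i hi]

theorem pd_pmu2_canon {a b : ℕ} (ha : PCanon a) (hb : PCanon b) (i : ℕ) (hi : i < 24) :
    pd (pmu2 a b) i = pd a (pd b i) := by
  rw [pd_pmu2 a b i hi, Nat.mod_eq_of_lt (hb.2 i hi), Nat.mod_eq_of_lt (ha.2 _ (hb.2 i hi))]

/-- the table of a code -/
def tabOf (c : ℕ) : List ℕ := (List.range 24).map (pd c)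

/-- a level of the chain; the tables are packed: the code of index `q` sits at the bits from
`120 * q` on -/
structure Lvl where
  /-- the base point -/
  b : ℕ
  /-- the orbit of the base point, as a set of bits -/
  mask : ℕ
  /-- the transversal -/
  UP : ℕ
  /-- the inverses -/
  UiP : ℕ

/-- the orbit test -/
def Lvl.pred (L : Lvl) (q : ℕ) : Bool := Nat.testBit L.mask q

/-- the code of the transversal element of the target `q` -/
def Lvl.u (L : Lvl) (q : ℕ) : ℕ :=
  Nat.land (Nat.shiftRight L.UP (Nat.mul 120 q)) 1329227995784915872903807060280344575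

/-- the code of its inverse -/
def Lvl.ui (L : Lvl) (q : ℕ) : ℕ :=
  Nat.land (Nat.shiftRight L.UiP (Nat.mul 120 q)) 1329227995784915872903807060280344575

/-- the checks on the tables of a level, for the target `q` -/
def lvlChk (fx : List ℕ) (L : Lvl) (q : ℕ) : Bool :=
  !(L.pred q) ||
    (chkM24 (tabOf (L.u q)) (L.u q) &&
      fx.all (fun j => pd (L.u q) j == j) && (pd (L.u q) L.b == q) &&
      (pmu2 (L.u q) (L.ui q) == pc1) &&
      (pmu2 (L.ui q) pc1 == L.ui q) && !(L.u q == 0))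

/-- the checks on the tables of a level -/
def lvlChkAll (fx : List ℕ) (L : Lvl) : Bool :=
  decide (L.b < 24) && (List.range 24).all (lvlChk fx L)

/-- a level is correct above the fixed points `fx` -/
structure LvlOK (fx : List ℕ) (L : Lvl) : Prop where
  /-- the tables -/
  chk : lvlChkAll fx L = true
  /-- the orbit -/
  up : ∀ (c : GG) (cc : ℕ), IsCode cc c → (∀ j ∈ fx, pd cc j = j) → L.pred (pd cc L.b) = true

/-- the chain is correct above the fixed points `fx` -/
def ChainOK : List ℕ → List Lvl → Prop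
  | fx, [] => ∀ (c : GG) (cc : ℕ), IsCode cc c → (∀ j ∈ fx, pd cc j = j) → cc = pc1
  | fx, L :: Ls => LvlOK fx L ∧ ChainOK (fx ++ [L.b]) Ls

/-- sifting: the code with the given images of the base points (`0` when there is none) -/
def siftT : List Lvl → List ℕ → ℕ
  | [], _ => pc1
  | L :: Ls, τ =>
    bif Nat.beq (L.u (τ.headD 0)) 0 then 0 else
      pmu2 (L.u (τ.headD 0))
        (siftT Ls (τ.tail.map fun t => pd (L.ui (τ.headD 0)) t))

theorem lvlChk_of_all {fx : List ℕ} {L : Lvl} (h : lvlChkAll fx L = true) {q : ℕ} (hq : q < 24)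
    (hp : L.pred q = true) :
    L.b < 24 ∧ chkM24 (tabOf (L.u q)) (L.u q) = true ∧
      (∀ j ∈ fx, pd (L.u q) j = j) ∧ pd (L.u q) L.b = q ∧
      pmu2 (L.u q) (L.ui q) = pc1 ∧
      pmu2 (L.ui q) pc1 = L.ui q ∧ L.u q ≠ 0 := by
  unfold lvlChkAll at h
  rw [Bool.and_eq_true, decide_eq_true_eq, List.all_eq_true] at h
  have h1 := h.2 q (List.mem_range.2 hq)
  unfold lvlChk at h1
  rw [hp] at h1
  simp only [Bool.not_true, Bool.false_or, Bool.and_eq_true, beq_iff_eq, List.all_eq_true,
    Bool.not_eq_true', beq_eq_false_iff_ne] at h1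
  obtain ⟨⟨⟨⟨⟨h2, h3⟩, h4⟩, h5⟩, h6⟩, h7⟩ := h1
  exact ⟨h.1, h2, h3, h4, h5, h6, h7⟩

theorem lvl_b_lt {fx : List ℕ} {L : Lvl} (h : lvlChkAll fx L = true) : L.b < 24 := by
  unfold lvlChkAll at h
  rw [Bool.and_eq_true, decide_eq_true_eq] at h
  exact h.1

/-- the digits of the code and the action on the points -/
theorem pd_eq_iff {c : GG} {cc : ℕ} (hc : IsCode cc c) {j i : ℕ} (hj : j < 24) (hi : i < 24) :
    pd cc j = i ↔ (c : Equiv.Perm GolayPt) (gUnidx j) = gUnidx i := by
  rw [pd_of_isCode hc j hj]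
  constructor
  · intro h
    rw [← h, gUnidx_gIdx]
  · intro h
    rw [h, gIdx_gUnidx i hi]

theorem pd_inv_of_pd {c : GG} {cc ci : ℕ} (hc : IsCode cc c) (hi : IsCode ci c⁻¹) {j i : ℕ}
    (hj : j < 24) (hi' : i < 24) (h : pd cc j = i) : pd ci i = j := by
  rw [pd_eq_iff hc hj hi'] at h
  rw [pd_eq_iff hi hi' hj]
  have : ((c⁻¹ : GG) : Equiv.Perm GolayPt) = (c : Equiv.Perm GolayPt)⁻¹ := rfl
  rw [this, Equiv.Perm.inv_eq_iff_eq, h]

/-- one step of the sifting -/
theorem sift_step {fx : List ℕ} {L : Lvl} (hL : LvlOK fx L) {c : GG} {cc : ℕ} (hc : IsCode cc c)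
    (hfix : ∀ j ∈ fx, pd cc j = j) (hfx : ∀ j ∈ fx, j < 24) :
    ∃ c' : GG, IsCode (pmu2 (L.ui (pd cc L.b)) cc) c' ∧
      (∀ j ∈ fx ++ [L.b], pd (pmu2 (L.ui (pd cc L.b)) cc) j = j) ∧
      cc = pmu2 (L.u (pd cc L.b)) (pmu2 (L.ui (pd cc L.b)) cc) ∧
      L.u (pd cc L.b) ≠ 0 ∧ PCanon (L.ui (pd cc L.b)) := by
  have hp := hL.up c cc hc hfix
  have hb : L.b < 24 := lvl_b_lt hL.chk
  have hq : pd cc L.b < 24 := hc.1.2 L.b hb
  obtain ⟨-, h2, h3, h4, h5, h6, h7⟩ := lvlChk_of_all hL.chk hq hp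
  set q := pd cc L.b with hqdef
  have hσ : IsCode (L.u q) (gOfChk h2) := isCode_gOfChk h2
  have hUi : PCanon (L.ui q) := canon_of_pmu2_pc1 h6
  have hσi : IsCode (L.ui q) (gOfChk h2)⁻¹ := hσ.inv_of_mul hUi h5
  have hc' : IsCode (pmu2 (L.ui q) cc) ((gOfChk h2)⁻¹ * c) := hσi.mul hc
  refine ⟨(gOfChk h2)⁻¹ * c, hc', ?_, ?_, h7, hUi⟩
  · intro j hj
    rw [List.mem_append, List.mem_singleton] at hj
    rcases hj with hj | rfl
    · rw [pd_pmu2_canon hUi hc.1 j (hfx j hj), hfix j hj]
      exact pd_inv_of_pd hσ hσi (hfx j hj) (hfx j hj) (h3 j hj)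
    · rw [pd_pmu2_canon hUi hc.1 L.b hb]
      exact pd_inv_of_pd hσ hσi hb hq h4
  · have h8 : IsCode (pmu2 (L.u q) (pmu2 (L.ui q) cc))
        (gOfChk h2 * ((gOfChk h2)⁻¹ * c)) := hσ.mul hc'
    rw [mul_inv_cancel_left] at h8
    exact hc.code_unique h8

theorem chainOK_b_lt : ∀ (Ls : List Lvl) (fx : List ℕ), ChainOK fx Ls → ∀ L ∈ Ls, L.b < 24 := by
  intro Ls
  induction Ls with
  | nil => intro fx _ L hL; simp at hL
  | cons L₀ Ls ih =>
    intro fx h L hL
    rcases List.mem_cons.1 hL with rfl | hL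
    · exact lvl_b_lt h.1.chk
    · exact ih _ h.2 L hL

/-- **Sifting recovers the code of a group element from the images of the base points.** -/
theorem sift_complete : ∀ (Ls : List Lvl) (fx : List ℕ), ChainOK fx Ls → (∀ j ∈ fx, j < 24) →
    ∀ (c : GG) (cc : ℕ), IsCode cc c → (∀ j ∈ fx, pd cc j = j) →
      siftT Ls ((Ls.map Lvl.b).map (pd cc)) = cc := by
  intro Ls
  induction Ls with
  | nil =>
    intro fx h _ c cc hc hfix
    exact (h c cc hc hfix).symm
  | cons L Ls ih =>
    intro fx h hfx c cc hc hfix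
    obtain ⟨c', hc', hfix', heq, hne, hUi⟩ := sift_step h.1 hc hfix hfx
    have hb : L.b < 24 := lvl_b_lt h.1.chk
    have hfx' : ∀ j ∈ fx ++ [L.b], j < 24 := by
      intro j hj
      rw [List.mem_append, List.mem_singleton] at hj
      rcases hj with hj | rfl
      · exact hfx j hj
      · exact hb
    have hIH := ih (fx ++ [L.b]) h.2 hfx' c' _ hc' hfix'
    rw [List.map_cons, List.map_cons, siftT, List.headD_cons, List.tail_cons]
    have hne' : Nat.beq (L.u (pd cc L.b)) 0 = false := by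
      rw [← Bool.not_eq_true, Nat.beq_eq]
      exact hne
    rw [hne', cond_false]
    have hmap : (List.map (pd cc) (List.map Lvl.b Ls)).map
        (fun t => pd (L.ui (pd cc L.b)) t) =
        (Ls.map Lvl.b).map (pd (pmu2 (L.ui (pd cc L.b)) cc)) := by
      rw [List.map_map, List.map_map, List.map_map]
      apply List.map_congr_left
      intro L' hL'
      have hb' : L'.b < 24 := chainOK_b_lt Ls _ h.2 L' hL'
      show pd (L.ui (pd cc L.b)) (pd cc L'.b) = pd (pmu2 (L.ui (pd cc L.b)) cc) L'.b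
      rw [pd_pmu2_canon hUi hc.1 L'.b hb']
    rw [hmap, hIH]
    exact heq.symm

/-! ### the same, without computing the products -/

/-- the successive targets `q` of the sifting (`none` when some orbit test fails) -/
def siftQ : List Lvl → List ℕ → Option (List ℕ)
  | [], _ => some []
  | L :: Ls, τ =>
    bif Nat.beq (L.u (τ.headD 0)) 0 then none else
      Option.map (fun qs => τ.headD 0 :: qs)
        (siftQ Ls (τ.tail.map fun t => pd (L.ui (τ.headD 0)) t))

/-- the product of the transversal elements of the targets -/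
def prodQ : List Lvl → List ℕ → ℕ
  | L :: Ls, q :: qs => pmu2 (L.u q) (prodQ Ls qs)
  | _, _ => pc1

/-- the image of the point `x` under the product of the transversal elements of the targets -/
def evalQ : List Lvl → List ℕ → ℕ → ℕ
  | L :: Ls, q :: qs, x => pd (L.u q) (evalQ Ls qs x)
  | _, _, x => x

theorem pd_pc1 : ∀ x < 24, pd pc1 x = x := by decide +kernel

theorem siftQ_complete : ∀ (Ls : List Lvl) (fx : List ℕ), ChainOK fx Ls → (∀ j ∈ fx, j < 24) →
    ∀ (c : GG) (cc : ℕ), IsCode cc c → (∀ j ∈ fx, pd cc j = j) →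
      ∃ qs, siftQ Ls ((Ls.map Lvl.b).map (pd cc)) = some qs ∧ prodQ Ls qs = cc ∧
        ∀ x < 24, evalQ Ls qs x = pd cc x := by
  intro Ls
  induction Ls with
  | nil =>
    intro fx h _ c cc hc hfix
    refine ⟨[], rfl, (h c cc hc hfix).symm, ?_⟩
    intro x hx
    rw [h c cc hc hfix, pd_pc1 x hx]
    rfl
  | cons L Ls ih =>
    intro fx h hfx c cc hc hfix
    obtain ⟨c', hc', hfix', heq, hne, hUi⟩ := sift_step h.1 hc hfix hfx
    have hb : L.b < 24 := lvl_b_lt h.1.chk
    have hfx' : ∀ j ∈ fx ++ [L.b], j < 24 := by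
      intro j hj
      rw [List.mem_append, List.mem_singleton] at hj
      rcases hj with hj | rfl
      · exact hfx j hj
      · exact hb
    obtain ⟨qs, hqs, hprod, heval⟩ := ih (fx ++ [L.b]) h.2 hfx' c' _ hc' hfix'
    have hne' : Nat.beq (L.u (pd cc L.b)) 0 = false := by
      rw [← Bool.not_eq_true, Nat.beq_eq]
      exact hne
    have hmap : (List.map (pd cc) (List.map Lvl.b Ls)).map
        (fun t => pd (L.ui (pd cc L.b)) t) =
        (Ls.map Lvl.b).map (pd (pmu2 (L.ui (pd cc L.b)) cc)) := by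
      rw [List.map_map, List.map_map, List.map_map]
      apply List.map_congr_left
      intro L' hL'
      have hb' : L'.b < 24 := chainOK_b_lt Ls _ h.2 L' hL'
      show pd (L.ui (pd cc L.b)) (pd cc L'.b) = pd (pmu2 (L.ui (pd cc L.b)) cc) L'.b
      rw [pd_pmu2_canon hUi hc.1 L'.b hb']
    refine ⟨pd cc L.b :: qs, ?_, ?_, ?_⟩
    · rw [List.map_cons, List.map_cons, siftQ, List.headD_cons, List.tail_cons, hne', cond_false,
        hmap, hqs]
      rfl
    · show pmu2 (L.u (pd cc L.b)) (prodQ Ls qs) = cc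
      rw [hprod]
      exact heq.symm
    · intro x hx
      show pd (L.u (pd cc L.b)) (evalQ Ls qs x) = pd cc x
      rw [heval x hx]
      -- the first factor is canonical
      have hp := h.1.up c cc hc hfix
      have hq : pd cc L.b < 24 := hc.1.2 L.b hb
      obtain ⟨-, h2, -, -, -, -, -⟩ := lvlChk_of_all h.1.chk hq hp
      have hσ : IsCode (L.u (pd cc L.b)) (gOfChk h2) := isCode_gOfChk h2
      rw [← pd_pmu2_canon hσ.1 hc'.1 x hx, ← heq]

end Cfsg.Agent.Lib.Helper4.M24B
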