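import Cfsg.Agent.Lib.Helper4.M24B.Reps

/-!
# M24: the search cut at its first level

The first level of the search of `stepL` has 24 branches; each can be evaluated in a declaration
of its own.  Also: the centralizer of an element as a list of codes.
-/

set_option autoImplicit false

namespace Cfsg.Agent.Lib.Helper4.M24B

open Cfsg Cfsg.Agent.Lib.Helper1 Cfsg.Agent.Lib.Helper1.PermCode

/-- the rest of the chain -/
def chainT : List Lvl := [lvl1, lvl2, lvl3, lvl4, lvl5, lvl6]

theorem chain_eq : chain = lvl0 :: chainT := rfl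

/-- the branch of the search with the first image `x` -/
def branch0 (g h : ℕ) (spec₀ : List (ℕ × ℕ × ℕ)) (x : ℕ) : List (List ℕ) :=
  bif Nat.beq (lvl0.u (applyAll [] (pdF (spec₀.headD (0, 0, 0)).2.1 x))) 0 then [] else
    stepL g h spec₀ chainT spec₀.tail
      ([] ++ [lvl0.ui (applyAll [] (pdF (spec₀.headD (0, 0, 0)).2.1 x))]) ([] ++ [x])

theorem stepL_split (g h : ℕ) (spec₀ : List (ℕ × ℕ × ℕ)) (hne : spec₀ ≠ []) :
    stepL g h spec₀ chain spec₀ [] [] = (List.range 24).flatMap (branch0 g h spec₀) := by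
  obtain ⟨e, sp, rfl⟩ := List.exists_cons_of_ne_nil hne
  rw [chain_eq, stepL]
  have h0 : Nat.blt e.2.2 ([] : List ℕ).length = false := by
    show Nat.ble (e.2.2 + 1) 0 = false
    rfl
  rw [h0]
  rfl

/-- the lengths of the 24 branches -/
theorem length_stepL_of_branches (g h : ℕ) (spec₀ : List (ℕ × ℕ × ℕ)) (hne : spec₀ ≠ [])
    (ns : List ℕ) (hns : ns.length = 24)
    (hb : ∀ x, x < 24 → (branch0 g h spec₀ x).length = ns.getD x 0) :
    (stepL g h spec₀ chain spec₀ [] []).length = ns.sum := by
  rw [stepL_split g h spec₀ hne, List.length_flatMap]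
  congr 1
  apply List.ext_getElem
  · simp [hns]
  · intro i h1 h2
    simp only [List.getElem_map, List.getElem_range]
    rw [hb i (by simpa using h1), List.getD_eq_getElem _ _ h2]

/-- the codes of the 24 branches -/
theorem map_stepL_of_branches (g h : ℕ) (spec₀ : List (ℕ × ℕ × ℕ)) (hne : spec₀ ≠ [])
    (Ls : List (List ℕ)) (hLs : Ls.length = 24)
    (hb : ∀ x, x < 24 → (branch0 g h spec₀ x).map (candC spec₀) = Ls.getD x []) :
    (stepL g h spec₀ chain spec₀ [] []).map (candC spec₀) = Ls.flatten := by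
  rw [stepL_split g h spec₀ hne, List.map_flatMap]
  rw [List.flatMap_def]
  congr 1
  apply List.ext_getElem
  · simp [hLs]
  · intro i h1 h2
    simp only [List.getElem_map, List.getElem_range]
    rw [hb i (by simpa using h1), List.getD_eq_getElem _ _ h2]

/-- **the centralizer as a list of codes** -/
theorem cd_mem_of_commute {g : ℕ} {spec : List (ℕ × ℕ × ℕ)} {P : List ℕ}
    (hS : SearchLOK g g spec P) {x : GG} (hx : IsCode g x) {LC : List ℕ}
    (hLC : (stepL g g spec chain spec [] []).map (candC spec) = LC) (c : GG)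
    (hc : c * x = x * c) : cd c ∈ LC := by
  have hcc : IsCode (cd c) c := isCode_cd c
  have hcomm : pmu2 (cd c) g = pmu2 g (cd c) := by
    have h1 := (hcc.mul hx).code_unique (show IsCode (pmu2 g (cd c)) (c * x) by
      rw [hc]; exact hx.mul hcc)
    exact h1
  obtain ⟨h1, h2⟩ := mem_stepL hS hcc hx.1 hx.1 hcomm
  rw [← hLC, ← h2]
  exact List.mem_map_of_mem h1

end Cfsg.Agent.Lib.Helper4.M24B
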